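import Mathlib
import Cfsg.Prelude.Def_Classical
import Cfsg.Agent.Lib.Classical.OrderQuad
import Cfsg.Agent.Lib.Classical.IsoBridge

/-!
# Diagonal quadratic forms over finite fields of odd order.
-/

set_option autoImplicit false
set_option linter.unusedSectionVars false

open Cfsg.Agent.Lib.Classical.Abs

namespace Cfsg.Agent.Lib.AltChar

section Diag

variable {F : Type*} [Field F]

/-- The weighted sum of squares. -/
def diagForm {ι : Type} [Fintype ι] (w : ι → F) (v : ι → F) : F := ∑ i, w i * v i ^ 2

/-- An isometry of functions on coordinate spaces. -/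
def FormEquiv {ι ι' : Type} (Q : (ι → F) → F) (Q' : (ι' → F) → F) : Prop :=
  ∃ A : (ι → F) ≃ₗ[F] (ι' → F), ∀ v, Q' (A v) = Q v

theorem FormEquiv.refl {ι : Type} (Q : (ι → F) → F) : FormEquiv Q Q :=
  ⟨LinearEquiv.refl _ _, fun _ => rfl⟩

theorem FormEquiv.symm {ι ι' : Type} {Q : (ι → F) → F} {Q' : (ι' → F) → F} (h : FormEquiv Q Q') :
    FormEquiv Q' Q := by
  obtain ⟨A, hA⟩ := h
  refine ⟨A.symm, fun v => ?_⟩
  rw [← hA]
  simp

theorem FormEquiv.trans {ι ι' ι'' : Type} {Q : (ι → F) → F} {Q' : (ι' → F) → F}
    {Q'' : (ι'' → F) → F} (h : FormEquiv Q Q') (h' : FormEquiv Q' Q'') : FormEquiv Q Q'' := by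
  obtain ⟨A, hA⟩ := h
  obtain ⟨B, hB⟩ := h'
  refine ⟨A.trans B, fun v => ?_⟩
  rw [LinearEquiv.trans_apply, hB, hA]

theorem FormEquiv.congr_left {ι ι' : Type} {Q Q₁ : (ι → F) → F} {Q' : (ι' → F) → F}
    (h : FormEquiv Q Q') (he : ∀ v, Q₁ v = Q v) : FormEquiv Q₁ Q' := by
  obtain ⟨A, hA⟩ := h
  exact ⟨A, fun v => by rw [hA, he]⟩

/-- Isometric forms have isomorphic isometry groups. -/
theorem FormEquiv.nonempty_mulEquiv {ι ι' : Type} [Fintype ι] [DecidableEq ι] [Fintype ι']
    [DecidableEq ι'] {Q : (ι → F) → F} {Q' : (ι' → F) → F} (h : FormEquiv Q Q') :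
    Nonempty (Cfsg.isometryGroup F Q ≃* Cfsg.isometryGroup F Q') := by
  obtain ⟨A, hA⟩ := h
  exact ⟨(isometryEquiv Q).trans ((isoGCongr A _ _ (fun u _ => hA u)).trans (isometryEquiv Q').symm)⟩

theorem mem_isometryGroup {ι : Type} [Fintype ι] [DecidableEq ι] {Q : (ι → F) → F}
    {g : Matrix.GeneralLinearGroup ι F} :
    g ∈ Cfsg.isometryGroup F Q ↔ ∀ u, Q (Matrix.mulVec g.1 u) = Q u :=
  ⟨fun h u => h u u, fun h u _ => h u⟩

/-- Rescaling the coordinates. -/
theorem form_rescale {ι : Type} [Fintype ι] (w w' t : ι → F) (ht : ∀ i, t i ≠ 0)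
    (h : ∀ i, w i = w' i * t i ^ 2) : FormEquiv (diagForm w) (diagForm w') := by
  refine ⟨{ toFun := fun v i => t i * v i
            invFun := fun v i => (t i)⁻¹ * v i
            map_add' := fun u v => by
              funext i
              simp [mul_add]
            map_smul' := fun c v => by
              funext i
              simp only [Pi.smul_apply, smul_eq_mul, RingHom.id_apply]
              ring
            left_inv := fun v => by
              funext i
              simp [ht i]
            right_inv := fun v => by
              funext i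
              simp [ht i] }, fun v => ?_⟩
  refine Finset.sum_congr rfl fun i _ => ?_
  change w' i * (t i * v i) ^ 2 = w i * v i ^ 2
  rw [h i]
  ring

/-- Reindexing the coordinates. -/
theorem form_reindex {ι ι' : Type} [Fintype ι] [Fintype ι'] (e : ι ≃ ι') (w : ι → F) :
    FormEquiv (diagForm w) (diagForm (fun i' => w (e.symm i'))) := by
  refine ⟨LinearEquiv.funCongrLeft F F e.symm, fun v => ?_⟩
  unfold diagForm
  rw [← Equiv.sum_comp e]
  refine Finset.sum_congr rfl fun i _ => ?_
  simp [LinearEquiv.funCongrLeft]

/-- The basic step. -/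
theorem pair_step {ι : Type} [Fintype ι] [DecidableEq ι] (w : ι → F) (i j : ι) (hij : i ≠ j)
    (x y : F) (hxy : w i * x ^ 2 + w j * y ^ 2 = 1) :
    FormEquiv (diagForm w) (diagForm (Function.update (Function.update w i 1) j (w i * w j))) := by
  have hi : ∀ u : ι → F, ∀ l, l = i → (if l = i then u i else if l = j then u j else u l) = u i := by
    intro u l hl
    simp [hl]
  refine ⟨{ toFun := fun v l => if l = i then w i * x * v i + w j * y * v j
                else if l = j then -y * v i + x * v j else v l
            invFun := fun v l => if l = i then x * v i - w j * y * v j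
                else if l = j then y * v i + w i * x * v j else v l
            map_add' := fun u v => by
              funext l
              simp only [Pi.add_apply]
              split_ifs <;> ring
            map_smul' := fun c v => by
              funext l
              simp only [Pi.smul_apply, smul_eq_mul, RingHom.id_apply]
              split_ifs <;> ring
            left_inv := fun v => by
              funext l
              by_cases h1 : l = i
              · subst h1
                simp only [if_true, if_neg hij, if_neg hij.symm]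
                linear_combination (v l) * hxy
              · by_cases h2 : l = j
                · subst h2
                  simp only [if_true, if_neg hij, if_neg hij.symm, if_neg h1]
                  linear_combination (v l) * hxy
                · simp [h1, h2]
            right_inv := fun v => by
              funext l
              by_cases h1 : l = i
              · subst h1
                simp only [if_true, if_neg hij, if_neg hij.symm]
                linear_combination (v l) * hxy
              · by_cases h2 : l = j
                · subst h2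
                  simp only [if_true, if_neg hij, if_neg hij.symm, if_neg h1]
                  linear_combination (v l) * hxy
                · simp [h1, h2] }, fun v => ?_⟩
  rw [← sub_eq_zero]
  unfold diagForm
  rw [← Finset.sum_sub_distrib, Fintype.sum_eq_add i j hij]
  · simp only [LinearEquiv.coe_mk, LinearMap.coe_mk, AddHom.coe_mk, if_true, if_neg hij, if_neg hij.symm,
      Function.update_self, Function.update_of_ne hij]
    linear_combination (w i * v i ^ 2 + w j * v j ^ 2) * hxy
  · rintro l ⟨h1, h2⟩
    simp [h1, h2, Function.update_of_ne h1, Function.update_of_ne h2]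

/-- Solving `a x² + b y² = 1`. -/
theorem exists_sum_sq_eq_one [Fintype F] (hF : Odd (Fintype.card F)) (a b : F) (ha : a ≠ 0) (hb : b ≠ 0) :
    ∃ x y : F, a * x ^ 2 + b * y ^ 2 = 1 := by
  open Polynomial in
  obtain ⟨x, y, h⟩ := FiniteField.exists_root_sum_quadratic
    (f := C a * X ^ 2 + C 0 * X + C (-1)) (g := C b * X ^ 2 + C 0 * X + C 0)
    (degree_quadratic ha) (degree_quadratic hb) (by
      obtain ⟨k, hk⟩ := hF
      omega)
  refine ⟨x, y, ?_⟩
  simp at h
  linear_combination h

theorem prod_update_pair {ι : Type} [Fintype ι] [DecidableEq ι] (w : ι → F) (i j : ι) (hij : i ≠ j) :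
    ∏ l, Function.update (Function.update w i 1) j (w i * w j) l = ∏ l, w l := by
  classical
  rw [← Finset.mul_prod_erase Finset.univ _ (Finset.mem_univ j),
    ← Finset.mul_prod_erase Finset.univ w (Finset.mem_univ j),
    ← Finset.mul_prod_erase (Finset.univ.erase j) _ (Finset.mem_erase.mpr ⟨hij, Finset.mem_univ i⟩),
    ← Finset.mul_prod_erase (Finset.univ.erase j) w (Finset.mem_erase.mpr ⟨hij, Finset.mem_univ i⟩)]
  rw [Function.update_self, Function.update_of_ne hij, Function.update_self]
  have : ∏ x ∈ (Finset.univ.erase j).erase i, Function.update (Function.update w i 1) j (w i * w j) x =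
      ∏ x ∈ (Finset.univ.erase j).erase i, w x := by
    refine Finset.prod_congr rfl fun l hl => ?_
    have h1 : l ≠ i := Finset.ne_of_mem_erase hl
    have h2 : l ≠ j := Finset.ne_of_mem_erase (Finset.mem_of_mem_erase hl)
    rw [Function.update_of_ne h2, Function.update_of_ne h1]
  rw [this]
  ring

/-- All weights but one become `1`, the product of weights does not change. -/
theorem weights_normal [Fintype F] (hF : Odd (Fintype.card F)) {ι : Type} [Fintype ι] [DecidableEq ι]
    (w : ι → F) (hw : ∀ i, w i ≠ 0) (j₀ : ι) (S : Finset ι) (hS : j₀ ∉ S) :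
    ∃ w' : ι → F, (∀ i, w' i ≠ 0) ∧ (∀ i ∈ S, w' i = 1) ∧ (∀ i, i ∉ S → i ≠ j₀ → w' i = w i) ∧
      ∏ i, w' i = ∏ i, w i ∧ FormEquiv (diagForm w) (diagForm w') := by
  induction S using Finset.induction_on with
  | empty => exact ⟨w, hw, by simp, fun _ _ _ => rfl, rfl, FormEquiv.refl _⟩
  | insert i S hi ih =>
    have hij : i ≠ j₀ := fun hc => hS (by simp [hc])
    have hS' : j₀ ∉ S := fun hc => hS (by simp [hc])
    obtain ⟨w₁, h0, h1, h2, h3, h4⟩ := ih hS'
    obtain ⟨x, y, hxy⟩ := exists_sum_sq_eq_one hF (w₁ i) (w₁ j₀) (h0 i) (h0 j₀)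
    refine ⟨Function.update (Function.update w₁ i 1) j₀ (w₁ i * w₁ j₀), ?_, ?_, ?_, ?_, ?_⟩
    · intro l
      by_cases h5 : l = j₀
      · subst h5
        simpa using ⟨h0 i, h0 l⟩
      · rw [Function.update_of_ne h5]
        by_cases h6 : l = i
        · subst h6
          simp
        · rw [Function.update_of_ne h6]
          exact h0 l
    · intro l hl
      have h5 : l ≠ j₀ := fun hc => hS (hc ▸ hl)
      rw [Function.update_of_ne h5]
      by_cases h6 : l = i
      · subst h6
        simp
      · rw [Function.update_of_ne h6]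
        exact h1 l (by simpa [h6] using hl)
    · intro l hl hl'
      rw [Function.update_of_ne hl']
      have h6 : l ≠ i := fun hc => hl (by simp [hc])
      rw [Function.update_of_ne h6]
      exact h2 l (fun hc => hl (by simp [hc])) hl'
    · rw [prod_update_pair w₁ i j₀ hij, h3]
    · exact h4.trans (pair_step w₁ i j₀ hij x y hxy)

/-- Diagonal forms with the same discriminant are isometric. -/
theorem diag_equiv [Fintype F] (hF : Odd (Fintype.card F)) {ι : Type} [Fintype ι] [DecidableEq ι]
    (w w' : ι → F) (hw : ∀ i, w i ≠ 0) (hw' : ∀ i, w' i ≠ 0) (r : F) (hr : r ≠ 0)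
    (h : ∏ i, w i = (∏ i, w' i) * r ^ 2) : FormEquiv (diagForm w) (diagForm w') := by
  by_cases hι : Nonempty ι
  · obtain ⟨j₀⟩ := hι
    obtain ⟨u, h0, h1, -, h3, h4⟩ := weights_normal hF w hw j₀ (Finset.univ.erase j₀) (by simp)
    obtain ⟨u', h0', h1', -, h3', h4'⟩ := weights_normal hF w' hw' j₀ (Finset.univ.erase j₀) (by simp)
    have hu : ∀ i, i ≠ j₀ → u i = 1 := fun i hi => h1 i (by simp [hi])
    have hu' : ∀ i, i ≠ j₀ → u' i = 1 := fun i hi => h1' i (by simp [hi])
    have hp : ∀ v : ι → F, (∀ i, i ≠ j₀ → v i = 1) → ∏ i, v i = v j₀ := by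
      intro v hv
      rw [Finset.prod_eq_single j₀ (fun b _ hb => hv b hb) (by simp)]
    have e1 : u j₀ = u' j₀ * r ^ 2 := by
      rw [← hp u hu, ← hp u' hu', h3, h3', h]
    refine h4.trans ((form_rescale u u' (fun i => if i = j₀ then r else 1) ?_ ?_).trans h4'.symm)
    · intro i
      by_cases hi : i = j₀ <;> simp [hi, hr]
    · intro i
      by_cases hi : i = j₀
      · subst hi
        simpa using e1
      · simp [hi, hu i hi, hu' i hi]
  · haveI : IsEmpty ι := not_nonempty_iff.mp hι
    refine ⟨LinearEquiv.refl _ _, fun v => ?_⟩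
    simp [diagForm]

/-- Diagonal forms with the same discriminant are isometric, with reindexing. -/
theorem diag_equiv_card [Fintype F] (hF : Odd (Fintype.card F)) {ι ι' : Type} [Fintype ι] [DecidableEq ι]
    [Fintype ι'] [DecidableEq ι'] (hcard : Fintype.card ι = Fintype.card ι')
    (w : ι → F) (w' : ι' → F) (hw : ∀ i, w i ≠ 0) (hw' : ∀ i, w' i ≠ 0) (r : F) (hr : r ≠ 0)
    (h : ∏ i, w i = (∏ i, w' i) * r ^ 2) : FormEquiv (diagForm w) (diagForm w') := by
  let e := Fintype.equivOfCardEq hcard
  refine (form_reindex e w).trans (diag_equiv hF _ w' (fun i => hw _) hw' r hr ?_)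
  rw [Equiv.prod_comp e.symm w, h]

theorem diagForm_sum {α β : Type} [Fintype α] [Fintype β] (w₁ : α → F) (w₂ : β → F) (v : α ⊕ β → F) :
    diagForm (Sum.elim w₁ w₂) v = diagForm w₁ (fun a => v (Sum.inl a)) + diagForm w₂ (fun b => v (Sum.inr b)) := by
  simp [diagForm, Fintype.sum_sum_type]

/-- Orthogonal sums of isometries. -/
theorem FormEquiv.sum {α β α' β' : Type} {Q₁ : (α → F) → F} {Q₂ : (β → F) → F}
    {Q₁' : (α' → F) → F} {Q₂' : (β' → F) → F} (h₁ : FormEquiv Q₁ Q₁') (h₂ : FormEquiv Q₂ Q₂') :
    FormEquiv (fun v : α ⊕ β → F => Q₁ (fun a => v (Sum.inl a)) + Q₂ (fun b => v (Sum.inr b)))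
      (fun v : α' ⊕ β' → F => Q₁' (fun a => v (Sum.inl a)) + Q₂' (fun b => v (Sum.inr b))) := by
  obtain ⟨A, hA⟩ := h₁
  obtain ⟨B, hB⟩ := h₂
  refine ⟨{ toFun := fun v => Sum.elim (A fun a => v (Sum.inl a)) (B fun b => v (Sum.inr b))
            invFun := fun v => Sum.elim (A.symm fun a => v (Sum.inl a)) (B.symm fun b => v (Sum.inr b))
            map_add' := fun u v => by
              have e1 : (fun a => (u + v) (Sum.inl a)) = (fun a => u (Sum.inl a)) + fun a => v (Sum.inl a) := rfl
              have e2 : (fun a => (u + v) (Sum.inr a)) = (fun a => u (Sum.inr a)) + fun a => v (Sum.inr a) := rfl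
              rw [e1, e2, map_add, map_add]
              funext s
              rcases s with s | s <;> simp
            map_smul' := fun c v => by
              have e1 : (fun a => (c • v) (Sum.inl a)) = c • (fun a => v (Sum.inl a)) := rfl
              have e2 : (fun a => (c • v) (Sum.inr a)) = c • (fun a => v (Sum.inr a)) := rfl
              rw [e1, e2, map_smul, map_smul]
              funext s
              rcases s with s | s <;> simp
            left_inv := fun v => by
              funext s
              rcases s with s | s <;> simp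
            right_inv := fun v => by
              funext s
              rcases s with s | s <;> simp }, fun v => ?_⟩
  change Q₁' (A fun a => v (Sum.inl a)) + Q₂' (B fun b => v (Sum.inr b)) = _
  rw [hA, hB]

end Diag

section Forms

variable {F : Type*} [Field F]

/-- The hyperbolic form is diagonal. -/
theorem plus_to_diag (h2 : (2 : F) ≠ 0) (m : ℕ) :
    FormEquiv (Cfsg.quadFormPlus m F)
      (diagForm (Sum.elim (fun _ : Fin m => (1 : F)) (fun _ : Fin m => (-1 : F)))) := by
  refine ⟨{ toFun := fun v => Sum.elim (fun i => (v (Sum.inl i) + v (Sum.inr i)) / 2)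
              (fun i => (v (Sum.inl i) - v (Sum.inr i)) / 2)
            invFun := fun v => Sum.elim (fun i => v (Sum.inl i) + v (Sum.inr i))
              (fun i => v (Sum.inl i) - v (Sum.inr i))
            map_add' := fun u v => by
              funext s
              rcases s with s | s <;> simp <;> ring
            map_smul' := fun c v => by
              funext s
              rcases s with s | s <;> simp <;> ring
            left_inv := fun v => by
              funext s
              rcases s with s | s <;> simp <;> field_simp <;> ring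
            right_inv := fun v => by
              funext s
              rcases s with s | s <;> simp <;> field_simp <;> ring }, fun v => ?_⟩
  simp only [diagForm, Fintype.sum_sum_type, Cfsg.quadFormPlus, LinearEquiv.coe_mk, LinearMap.coe_mk,
    AddHom.coe_mk, Sum.elim_inl, Sum.elim_inr, ← Finset.sum_add_distrib]
  refine Finset.sum_congr rfl fun i _ => ?_
  field_simp
  ring

/-- The binary form. -/
def binForm (a b : F) (v : Fin 2 → F) : F := v 0 ^ 2 + a * v 0 * v 1 + b * v 1 ^ 2

theorem bin_to_diag (h2 : (2 : F) ≠ 0) (a b : F) :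
    FormEquiv (binForm a b) (diagForm ![(1 : F), b - a ^ 2 / 4]) := by
  have h4 : (4 : F) ≠ 0 := by
    have : (4 : F) = 2 * 2 := by norm_num
    rw [this]
    exact mul_ne_zero h2 h2
  refine ⟨{ toFun := fun v => ![v 0 + a / 2 * v 1, v 1]
            invFun := fun v => ![v 0 - a / 2 * v 1, v 1]
            map_add' := fun u v => by
              funext s
              fin_cases s <;> simp <;> ring
            map_smul' := fun c v => by
              funext s
              fin_cases s <;> simp <;> ring
            left_inv := fun v => by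
              funext s
              fin_cases s <;> simp
            right_inv := fun v => by
              funext s
              fin_cases s <;> simp }, fun v => ?_⟩
  simp only [diagForm, binForm, Fin.sum_univ_two, LinearEquiv.coe_mk, LinearMap.coe_mk, AddHom.coe_mk]
  simp only [Matrix.cons_val_zero, Matrix.cons_val_one, Matrix.cons_val_fin_one]
  field_simp
  ring

theorem odd_to_diag (h2 : (2 : F) ≠ 0) (m : ℕ) :
    FormEquiv (Cfsg.quadFormOdd m F)
      (diagForm (Sum.elim (fun _ : Unit => (1 : F))
        (Sum.elim (fun _ : Fin m => (1 : F)) (fun _ : Fin m => (-1 : F))))) := by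
  have h := FormEquiv.sum (FormEquiv.refl (diagForm (fun _ : Unit => (1 : F)))) (plus_to_diag h2 m)
  refine (FormEquiv.congr_left h fun v => ?_).trans ?_
  · simp [diagForm, Cfsg.quadFormOdd, Cfsg.quadFormPlus]
  · exact ⟨LinearEquiv.refl _ _, fun v => (diagForm_sum _ _ v)⟩

theorem minus_to_diag (h2 : (2 : F) ≠ 0) (m : ℕ) (a b : F) :
    FormEquiv (Cfsg.quadFormMinus m F a b)
      (diagForm (Sum.elim (Sum.elim (fun _ : Fin m => (1 : F)) (fun _ : Fin m => (-1 : F)))
        ![(1 : F), b - a ^ 2 / 4])) := by
  have h := FormEquiv.sum (plus_to_diag h2 m) (bin_to_diag h2 a b)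
  refine (FormEquiv.congr_left h fun v => ?_).trans ?_
  · simp [binForm, Cfsg.quadFormMinus, Cfsg.quadFormPlus]
  · exact ⟨LinearEquiv.refl _ _, fun v => (diagForm_sum _ _ v)⟩

end Forms

end Cfsg.Agent.Lib.AltChar
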