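import Mathlib

/-!
# Sylow subgroups of symmetric and alternating groups have elementary abelian abelianizations.

The model: `C_p ≀ T` on `Y × ZMod p`, with `T` a Sylow subgroup of `Sym(Y)`, `|Y| = ⌊n / p⌋`.
Each element is `b * u` with `b ^ p = 1` and `u` in the copy of `T`.
-/

set_option autoImplicit false
set_option linter.unusedSectionVars false

open Equiv

namespace Cfsg.Agent.Lib.AltChar

section Generic

variable {G : Type*} [Group G]

theorem mem_commutator_coe (H : Subgroup G) (x : H) :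
    x ∈ commutator H ↔ (x : G) ∈ ⁅H, H⁆ := by
  rw [← Subgroup.map_subtype_commutator H]
  constructor
  · intro h
    exact ⟨x, h, rfl⟩
  · rintro ⟨y, hy, hxy⟩
    have : y = x := Subtype.ext hxy
    exact this ▸ hy

/-- The `p`-th power map is multiplicative modulo the commutator subgroup. -/
theorem mul_pow_mem_commutator (H : Subgroup G) (p : ℕ) {b u : G} (hb : b ∈ H) (hu : u ∈ H)
    (hb' : b ^ p ∈ ⁅H, H⁆) (hu' : u ^ p ∈ ⁅H, H⁆) : (b * u) ^ p ∈ ⁅H, H⁆ := by
  have key : ((⟨b, hb⟩ : H) * ⟨u, hu⟩) ^ p ∈ commutator H := by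
    rw [← Abelianization.ker_of, MonoidHom.mem_ker, map_pow, map_mul, mul_pow, ← map_pow, ← map_pow]
    have h1 : (⟨b, hb⟩ : H) ^ p ∈ commutator H := (mem_commutator_coe H _).mpr (by simpa using hb')
    have h2 : (⟨u, hu⟩ : H) ^ p ∈ commutator H := (mem_commutator_coe H _).mpr (by simpa using hu')
    rw [← Abelianization.ker_of, MonoidHom.mem_ker] at h1 h2
    rw [h1, h2, one_mul]
  have := (mem_commutator_coe H _).mp key
  simpa using this

end Generic

section Wreath

variable (p : ℕ) [hp : Fact p.Prime] {Y : Type} [Fintype Y] [DecidableEq Y]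

/-- The element `(y, c) ↦ (t y, c + f y)`. -/
def mkP (t : Perm Y) (f : Y → ZMod p) : Perm (Y × ZMod p) :=
  Equiv.prodShear t (fun y => Equiv.addRight (f y))

@[simp] theorem mkP_apply (t : Perm Y) (f : Y → ZMod p) (y : Y) (c : ZMod p) :
    mkP p t f (y, c) = (t y, c + f y) := rfl

theorem mkP_mul (t t' : Perm Y) (f f' : Y → ZMod p) :
    mkP p t f * mkP p t' f' = mkP p (t * t') (fun y => f' y + f (t' y)) := by
  ext ⟨y, c⟩ <;> simp [add_assoc]

theorem mkP_one : mkP p (1 : Perm Y) (fun _ => 0) = 1 := by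
  ext ⟨y, c⟩ <;> simp

theorem mkP_inv (t : Perm Y) (f : Y → ZMod p) :
    (mkP p t f)⁻¹ = mkP p t⁻¹ (fun y => - f (t⁻¹ y)) := by
  rw [inv_eq_iff_mul_eq_one, mkP_mul]
  ext ⟨y, c⟩ <;> simp

/-- The wreath product `C_p ≀ T` in its imprimitive action on `Y × ZMod p`. -/
def wr (T : Subgroup (Perm Y)) : Subgroup (Perm (Y × ZMod p)) where
  carrier := {σ | ∃ t ∈ T, ∃ f, σ = mkP p t f}
  mul_mem' := by
    rintro _ _ ⟨t, ht, f, rfl⟩ ⟨t', ht', f', rfl⟩
    exact ⟨t * t', mul_mem ht ht', _, mkP_mul p t t' f f'⟩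
  one_mem' := ⟨1, one_mem _, fun _ => 0, (mkP_one p).symm⟩
  inv_mem' := by
    rintro _ ⟨t, ht, f, rfl⟩
    exact ⟨t⁻¹, inv_mem ht, _, mkP_inv p t f⟩

theorem mkP_mem_wr {T : Subgroup (Perm Y)} {t : Perm Y} (ht : t ∈ T) (f : Y → ZMod p) :
    mkP p t f ∈ wr p T := ⟨t, ht, f, rfl⟩

/-- The order of the wreath product. -/
theorem card_wr (T : Subgroup (Perm Y)) :
    Nat.card (wr p T) = p ^ Fintype.card Y * Nat.card T := by
  let F : T × (Y → ZMod p) → wr p T := fun x => ⟨mkP p x.1.1 x.2, mkP_mem_wr p x.1.2 _⟩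
  have hF : Function.Bijective F := by
    constructor
    · rintro ⟨⟨t, ht⟩, f⟩ ⟨⟨t', ht'⟩, f'⟩ h
      have h1 : mkP p t f = mkP p t' f' := congrArg Subtype.val h
      have h2 : ∀ y, t y = t' y ∧ (0 : ZMod p) + f y = 0 + f' y := fun y => by
        have := congrFun (congrArg DFunLike.coe h1) (y, 0)
        simpa using this
      refine Prod.ext (Subtype.ext (Equiv.ext fun y => (h2 y).1)) (funext fun y => ?_)
      simpa using (h2 y).2
    · rintro ⟨_, t, ht, f, rfl⟩
      exact ⟨(⟨t, ht⟩, f), rfl⟩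
  rw [← Nat.card_congr (Equiv.ofBijective F hF), Nat.card_prod, Nat.card_fun, Nat.card_zmod,
    Nat.card_eq_fintype_card (α := Y), mul_comm]

/-- The diagonal copy of `Sym(Y)`. -/
def liftP : Perm Y →* Perm (Y × ZMod p) where
  toFun t := mkP p t (fun _ => 0)
  map_one' := mkP_one p
  map_mul' t t' := by
    rw [mkP_mul]
    simp

theorem liftP_apply (t : Perm Y) : liftP p t = mkP p t (fun _ => 0) := rfl

theorem mkP_one_pow (f : Y → ZMod p) (k : ℕ) :
    mkP p (1 : Perm Y) f ^ k = mkP p 1 (fun y => (k : ZMod p) * f y) := by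
  induction k with
  | zero => simp [mkP_one]
  | succ k ih =>
    rw [pow_succ, ih, mkP_mul, mul_one]
    congr 1
    funext y
    simp only [Perm.one_apply]
    push_cast
    ring

theorem mkP_one_pow_p (f : Y → ZMod p) : mkP p (1 : Perm Y) f ^ p = 1 := by
  rw [mkP_one_pow]
  simp [mkP_one]

theorem mkP_eq_mul (t : Perm Y) (f : Y → ZMod p) :
    mkP p t f = mkP p 1 (fun y => f (t⁻¹ y)) * liftP p t := by
  rw [liftP_apply, mkP_mul, one_mul]
  congr 1
  funext y
  simp

/-- The sign on the diagonal copy. -/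
theorem sign_liftP (t : Perm Y) : Perm.sign (liftP p t) = Perm.sign t ^ p := by
  have h : liftP p t = Equiv.prodCongrLeft (fun _ : ZMod p => t) := by
    ext ⟨y, c⟩ <;> simp [liftP_apply]
  rw [h, Equiv.Perm.sign_prodCongrLeft]
  simp [ZMod.card]

end Wreath

section Model

/-- A model of a Sylow subgroup. -/
def IsModel (p : ℕ) {X : Type} [Fintype X] [DecidableEq X] (G U : Subgroup (Perm X)) : Prop :=
  U ≤ G ∧ (∀ u ∈ U, u ^ p ∈ ⁅U, U⁆) ∧ (∀ x ∈ G, ∃ b ∈ G, ∃ u ∈ U, x = b * u ∧ b ^ p = 1) ∧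
    (p = 2 → ∀ u ∈ U, Perm.sign u = 1)

theorem IsModel.pow_mem {p : ℕ} {X : Type} [Fintype X] [DecidableEq X] {G U : Subgroup (Perm X)}
    (h : IsModel p G U) (x : Perm X) (hx : x ∈ G) : x ^ p ∈ ⁅G, G⁆ := by
  obtain ⟨hU, hE, hdec, -⟩ := h
  obtain ⟨b, hb, u, hu, rfl, hbp⟩ := hdec x hx
  refine mul_pow_mem_commutator G p hb (hU hu) (by rw [hbp]; exact one_mem _) ?_
  exact Subgroup.commutator_mono hU hU (hE u hu)

theorem sign_viaEmbeddingHom {α β : Type} [Fintype α] [DecidableEq α] [Fintype β] [DecidableEq β]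
    (ι : α ↪ β) (e : Perm α) : Perm.sign (Perm.viaEmbeddingHom ι e) = Perm.sign e := by
  rw [Perm.viaEmbeddingHom_apply]
  unfold Perm.viaEmbedding
  convert Perm.sign_extendDomain e (Equiv.ofInjective ι ι.injective) <;> rfl

/-- Existence of the model. -/
theorem exists_model (p : ℕ) [hp : Fact p.Prime] : ∀ (n : ℕ) (X : Type) [Fintype X] [DecidableEq X],
    Fintype.card X = n → ∃ G U : Subgroup (Perm X), Nat.card G = p ^ padicValNat p n.factorial ∧
      IsModel p G U := by
  intro n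
  induction n using Nat.strong_induction_on with
  | _ n ih =>
    intro X _ _ hX
    have hpp : p.Prime := hp.out
    rcases Nat.eq_zero_or_pos n with rfl | hn
    · refine ⟨⊥, ⊥, by simp, bot_le, ?_, ?_, ?_⟩
      · intro u hu
        rw [Subgroup.mem_bot] at hu
        subst hu
        simp [one_mem]
      · intro x hx
        refine ⟨1, one_mem _, 1, one_mem _, ?_, one_pow _⟩
        rw [Subgroup.mem_bot] at hx
        simp [hx]
      · intro _ u hu
        rw [Subgroup.mem_bot] at hu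
        simp [hu]
    · have hq : n / p < n := Nat.div_lt_self hn hpp.one_lt
      obtain ⟨T, T', hT, hmod⟩ := ih (n / p) hq (Fin (n / p)) (by simp)
      have hE := hmod.pow_mem
      -- embedding
      have hcard : Fintype.card (Fin (n / p) × ZMod p) ≤ Fintype.card X := by
        rw [Fintype.card_prod, ZMod.card, Fintype.card_fin, hX]
        exact Nat.div_mul_le_self n p
      obtain ⟨ι⟩ := Function.Embedding.nonempty_of_card_le hcard
      let φ := Perm.viaEmbeddingHom ι
      have hφ : Function.Injective φ := Perm.viaEmbeddingHom_injective ι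
      refine ⟨(wr p T).map φ, (T.map (liftP p)).map φ, ?_, ?_, ?_, ?_, ?_⟩
      · rw [Nat.card_congr (Subgroup.equivMapOfInjective _ φ hφ).symm.toEquiv, card_wr, hT,
          Fintype.card_fin, ← pow_add, add_comm, ← padicValNat_factorial_mul,
          padicValNat_mul_div_factorial]
      · apply Subgroup.map_mono
        rintro _ ⟨t, ht, rfl⟩
        rw [liftP_apply]
        exact mkP_mem_wr p ht _
      · rintro _ ⟨_, ⟨t, ht, rfl⟩, rfl⟩
        have h1 := hE t ht
        rw [← map_pow, ← map_pow]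
        rw [← Subgroup.map_commutator, ← Subgroup.map_commutator]
        exact Subgroup.mem_map_of_mem _ (Subgroup.mem_map_of_mem _ h1)
      · rintro _ ⟨_, ⟨t, ht, f, rfl⟩, rfl⟩
        refine ⟨φ (mkP p 1 (fun y => f (t⁻¹ y))), Subgroup.mem_map_of_mem _ (mkP_mem_wr p (one_mem _) _),
          φ (liftP p t), Subgroup.mem_map_of_mem _ (Subgroup.mem_map_of_mem _ ht), ?_, ?_⟩
        · rw [← map_mul, ← mkP_eq_mul]
        · rw [← map_pow, mkP_one_pow_p, map_one]
      · rintro rfl _ ⟨_, ⟨t, ht, rfl⟩, rfl⟩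
        rw [sign_viaEmbeddingHom, sign_liftP]
        exact Int.units_sq _

end Model

section Main

/-- The symmetric group case. -/
theorem sylow_perm_pow_mem (p : ℕ) [hp : Fact p.Prime] (n : ℕ) (P : Sylow p (Perm (Fin n))) :
    ∃ G U : Subgroup (Perm (Fin n)), IsModel p G U ∧ ∃ g : Perm (Fin n),
      (P : Subgroup (Perm (Fin n))) = G.map (MulAut.conj g).toMonoidHom := by
  obtain ⟨G, U, hG, hmod⟩ := exists_model p n (Fin n) (by simp)
  let S : Sylow p (Perm (Fin n)) := Sylow.ofCard G (by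
    rw [hG, Nat.card_perm]
    simp [Nat.factorization_def _ hp.out])
  obtain ⟨g, hg⟩ := MulAction.exists_smul_eq (Perm (Fin n)) S P
  refine ⟨G, U, hmod, g, ?_⟩
  rw [← hg]
  rfl

end Main

end Cfsg.Agent.Lib.AltChar
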