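import Mathlib
import Cfsg.Agent.Lib.AltChar.SylowExp

/-!
# Abstract wreath products inside a group, and squares modulo the commutator subgroup.
-/

set_option autoImplicit false
set_option linter.unusedSectionVars false

open Equiv

namespace Cfsg.Agent.Lib.AltChar

section Transfer

variable {G : Type*} [Group G]

/-- Powers in the commutator subgroup, for a subgroup of a finite group, pass to all
Sylow subgroups. -/
theorem sylow_exp_of_sub [Finite G] (p : ℕ) [hp : Fact p.Prime] (M : Subgroup G)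
    (hM : Nat.card M = p ^ (Nat.card G).factorization p) (hE : ∀ g ∈ M, g ^ p ∈ ⁅M, M⁆)
    (P : Sylow p G) : ∀ x : (P : Subgroup G), x ^ p ∈ commutator (P : Subgroup G) := by
  let S : Sylow p G := Sylow.ofCard M hM
  obtain ⟨g, hg⟩ := MulAction.exists_smul_eq G S P
  have hPS : (P : Subgroup G) = M.map (MulAut.conj g).toMonoidHom := by
    rw [← hg]
    rfl
  have key : ∀ y ∈ (P : Subgroup G), y ^ p ∈ ⁅(P : Subgroup G), (P : Subgroup G)⁆ := by
    rw [hPS]
    rintro _ ⟨y, hy, rfl⟩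
    rw [← Subgroup.map_commutator, ← map_pow]
    exact Subgroup.mem_map_of_mem _ (hE y hy)
  intro x
  rw [mem_commutator_coe]
  simpa using key x x.2

/-- Variant: the exponent property for all Sylow subgroups from a Sylow subgroup. -/
theorem sylow_exp_of_sylow [Finite G] (p : ℕ) [hp : Fact p.Prime] (S : Sylow p G)
    (hE : ∀ g ∈ (S : Subgroup G), g ^ p ∈ ⁅(S : Subgroup G), (S : Subgroup G)⁆)
    (P : Sylow p G) : ∀ x : (P : Subgroup G), x ^ p ∈ commutator (P : Subgroup G) :=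
  sylow_exp_of_sub p S (Sylow.card_eq_multiplicity S) hE P

end Transfer

section Abstract

variable {Γ R : Type*} [Group Γ] [Group R] {n : ℕ}

/-- A wreath product `R ≀ Sym(n)` inside `Γ`. -/
structure WrData (D : (Fin n → R) →* Γ) (Pm : Perm (Fin n) →* Γ) : Prop where
  conj : ∀ (σ : Perm (Fin n)) (x : Fin n → R), Pm σ * D x = D (fun i => x (σ⁻¹ i)) * Pm σ
  uniq : ∀ (x y : Fin n → R) (σ τ : Perm (Fin n)), D x * Pm σ = D y * Pm τ → x = y ∧ σ = τ

variable {D : (Fin n → R) →* Γ} {Pm : Perm (Fin n) →* Γ}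

/-- The subgroup `R₀ ≀ T`. -/
def wrSub (h : WrData D Pm) (R₀ : Subgroup R) (T : Subgroup (Perm (Fin n))) : Subgroup Γ where
  carrier := {g | ∃ x : Fin n → R, (∀ i, x i ∈ R₀) ∧ ∃ σ ∈ T, g = D x * Pm σ}
  mul_mem' := by
    rintro _ _ ⟨x, hx, σ, hσ, rfl⟩ ⟨y, hy, τ, hτ, rfl⟩
    refine ⟨x * fun i => y (σ⁻¹ i), fun i => mul_mem (hx i) (hy _), σ * τ, mul_mem hσ hτ, ?_⟩
    rw [map_mul, map_mul, mul_assoc, mul_assoc, ← mul_assoc (Pm σ), h.conj, mul_assoc]
  one_mem' := ⟨1, fun _ => one_mem _, 1, one_mem _, by simp⟩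
  inv_mem' := by
    rintro _ ⟨x, hx, σ, hσ, rfl⟩
    refine ⟨fun i => (x (σ i))⁻¹, fun i => inv_mem (hx _), σ⁻¹, inv_mem hσ, ?_⟩
    have h1 : Pm σ⁻¹ * D x⁻¹ = D (fun i => (x (σ i))⁻¹) * Pm σ⁻¹ := by
      have := h.conj σ⁻¹ x⁻¹
      simpa using this
    rw [mul_inv_rev, ← map_inv, ← map_inv, h1]

theorem D_mem_wrSub (h : WrData D Pm) {R₀ : Subgroup R} {T : Subgroup (Perm (Fin n))}
    {x : Fin n → R} (hx : ∀ i, x i ∈ R₀) : D x ∈ wrSub h R₀ T :=
  ⟨x, hx, 1, one_mem _, by simp⟩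

theorem Pm_mem_wrSub (h : WrData D Pm) {R₀ : Subgroup R} {T : Subgroup (Perm (Fin n))}
    {σ : Perm (Fin n)} (hσ : σ ∈ T) : Pm σ ∈ wrSub h R₀ T :=
  ⟨1, fun _ => one_mem _, σ, hσ, by simp⟩

/-- The order of the wreath product. -/
theorem card_wrSub [Finite R] (h : WrData D Pm) (R₀ : Subgroup R) (T : Subgroup (Perm (Fin n))) :
    Nat.card (wrSub h R₀ T) = Nat.card R₀ ^ n * Nat.card T := by
  let F : (Fin n → R₀) × T → wrSub h R₀ T := fun x =>
    ⟨D (fun i => (x.1 i : R)) * Pm x.2, fun i => (x.1 i : R), fun i => (x.1 i).2, x.2, x.2.2, rfl⟩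
  have hF : Function.Bijective F := by
    constructor
    · rintro ⟨x, σ⟩ ⟨y, τ⟩ hxy
      have h1 := h.uniq _ _ _ _ (congrArg Subtype.val hxy)
      refine Prod.ext (funext fun i => Subtype.ext (congrFun h1.1 i)) (Subtype.ext h1.2)
    · rintro ⟨_, x, hx, σ, hσ, rfl⟩
      exact ⟨(fun i => ⟨x i, hx i⟩, ⟨σ, hσ⟩), rfl⟩
  rw [← Nat.card_congr (Equiv.ofBijective F hF), Nat.card_prod, Nat.card_fun]
  simp

/-- Powers in the commutator subgroup of a wreath product. -/
theorem pow_mem_wrSub (h : WrData D Pm) (p : ℕ) {R₀ : Subgroup R} {T : Subgroup (Perm (Fin n))}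
    (hR : ∀ a ∈ R₀, a ^ p ∈ ⁅R₀, R₀⁆) (hT : ∀ σ ∈ T, σ ^ p ∈ ⁅T, T⁆) :
    ∀ g ∈ wrSub h R₀ T, g ^ p ∈ ⁅wrSub h R₀ T, wrSub h R₀ T⁆ := by
  classical
  set M := wrSub h R₀ T with hM
  -- permutation part
  have hP : ∀ σ ∈ T, (Pm σ) ^ p ∈ ⁅M, M⁆ := by
    intro σ hσ
    rw [← map_pow]
    have h1 : Pm (σ ^ p) ∈ (⁅T, T⁆).map Pm := Subgroup.mem_map_of_mem _ (hT σ hσ)
    rw [Subgroup.map_commutator] at h1
    have h2 : T.map Pm ≤ M := by
      rintro _ ⟨τ, hτ, rfl⟩
      exact Pm_mem_wrSub h hτ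
    exact Subgroup.commutator_mono h2 h2 h1
  -- single coordinates
  have hS : ∀ (i : Fin n), ∀ a ∈ R₀, (D (Pi.mulSingle i a)) ^ p ∈ ⁅M, M⁆ := by
    intro i a ha
    let ι : R →* Γ := D.comp (MonoidHom.mulSingle (fun _ : Fin n => R) i)
    have hι : ∀ b, ι b = D (Pi.mulSingle i b) := fun b => rfl
    rw [← hι, ← map_pow]
    have h1 : ι (a ^ p) ∈ (⁅R₀, R₀⁆).map ι := Subgroup.mem_map_of_mem _ (hR a ha)
    rw [Subgroup.map_commutator] at h1
    have h2 : R₀.map ι ≤ M := by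
      rintro _ ⟨b, hb, rfl⟩
      rw [hι]
      refine D_mem_wrSub h fun j => ?_
      by_cases hj : j = i
      · subst hj
        simpa using hb
      · simp [Pi.mulSingle_eq_of_ne hj, one_mem]
    exact Subgroup.commutator_mono h2 h2 h1
  -- base part
  have hSm : ∀ (i : Fin n), ∀ a ∈ R₀, D (Pi.mulSingle i a) ∈ M := by
    intro i a ha
    refine D_mem_wrSub h fun j => ?_
    by_cases hj : j = i
    · subst hj
      simpa using ha
    · simp [Pi.mulSingle_eq_of_ne hj, one_mem]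
  have hB' : ∀ (s : Finset (Fin n)) (x : Fin n → R), (∀ i, x i ∈ R₀) → (∀ i, i ∉ s → x i = 1) →
      (D x) ^ p ∈ ⁅M, M⁆ ∧ D x ∈ M := by
    intro s
    induction s using Finset.induction_on with
    | empty =>
      intro x _ hx1
      have : x = 1 := funext fun i => hx1 i (by simp)
      subst this
      simp [one_mem]
    | insert j s hj ih =>
      intro x hx hx1
      have hdec : x = Pi.mulSingle j (x j) * Function.update x j 1 := by
        funext i
        by_cases hi : i = j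
        · subst hi
          simp
        · simp [Pi.mulSingle_eq_of_ne hi, Function.update_of_ne hi]
      have h1 := ih (Function.update x j 1) (fun i => by
        by_cases hi : i = j
        · subst hi
          simp [one_mem]
        · simpa [Function.update_of_ne hi] using hx i) (fun i hi' => by
        by_cases hi : i = j
        · subst hi
          simp
        · rw [Function.update_of_ne hi]
          exact hx1 i (by simp [hi, hi']))
      rw [hdec, map_mul]
      exact ⟨mul_pow_mem_commutator M p (hSm j _ (hx j)) h1.2 (hS j _ (hx j)) h1.1,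
        mul_mem (hSm j _ (hx j)) h1.2⟩
  have hB : ∀ x : Fin n → R, (∀ i, x i ∈ R₀) → (D x) ^ p ∈ ⁅M, M⁆ ∧ D x ∈ M :=
    fun x hx => hB' Finset.univ x hx (fun i hi => absurd (Finset.mem_univ i) hi)
  rintro _ ⟨x, hx, σ, hσ, rfl⟩
  exact mul_pow_mem_commutator M p (hB x hx).2 (Pm_mem_wrSub h hσ) (hB x hx).1 (hP σ hσ)

end Abstract

end Cfsg.Agent.Lib.AltChar
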