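import Mathlib
import Cfsg.Agent.Lib.AltChar.WrSub

/-!
# Block monomial matrices: `GL₂(F) ≀ Sym(m)` in `GL_{2m}(F)`, and monomial matrices.
-/

set_option autoImplicit false
set_option linter.unusedSectionVars false

open Equiv Matrix
open scoped MatrixGroups

namespace Cfsg.Agent.Lib.AltChar

section Pm

variable {F : Type*} [Field F] {ι : Type*} [Fintype ι] [DecidableEq ι]

/-- The permutation matrix with `1` at `(σ j, j)`. -/
def pm (σ : Perm ι) : Matrix ι ι F := Matrix.of fun i j => if i = σ j then 1 else 0

@[simp] theorem pm_apply (σ : Perm ι) (i j : ι) : pm (F := F) σ i j = if i = σ j then 1 else 0 := rfl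

theorem pm_mul_apply (σ : Perm ι) (A : Matrix ι ι F) (i j : ι) :
    (pm σ * A : Matrix ι ι F) i j = A (σ⁻¹ i) j := by
  rw [Matrix.mul_apply, Finset.sum_eq_single (σ⁻¹ i)]
  · simp
  · intro b _ hb
    have : i ≠ σ b := fun hc => hb (by rw [hc]; simp)
    simp [this]
  · simp

theorem mul_pm_apply (σ : Perm ι) (A : Matrix ι ι F) (i j : ι) :
    (A * pm σ : Matrix ι ι F) i j = A i (σ j) := by
  rw [Matrix.mul_apply, Finset.sum_eq_single (σ j)]
  · simp
  · intro b _ hb
    simp [hb]
  · simp

theorem pm_mul (σ τ : Perm ι) : pm (F := F) σ * pm τ = pm (σ * τ) := by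
  ext i j
  rw [mul_pm_apply, pm_apply, pm_apply]
  rfl

theorem pm_one : pm (F := F) (1 : Perm ι) = 1 := by
  ext i j
  rw [pm_apply, Matrix.one_apply]
  rfl

theorem det_pm (σ : Perm ι) : (pm (F := F) σ).det = ((Perm.sign σ : ℤˣ) : ℤ) := by
  have h : pm (F := F) σ = (σ⁻¹).permMatrix F := by
    ext i j
    simp only [pm_apply, Equiv.Perm.permMatrix, PEquiv.toMatrix_apply, Equiv.toPEquiv_apply,
      Option.mem_def, Option.some.injEq]
    by_cases hij : i = σ j
    · subst hij
      simp
    · have : ¬ (Equiv.symm σ) i = j := fun hc => hij (by rw [← hc]; simp)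
      simp [hij, this]
  rw [h, Matrix.det_permutation, Perm.sign_inv]

/-- Permutation matrices in the general linear group. -/
def pmGL : Perm ι →* GL ι F :=
  MonoidHom.toHomUnits
    { toFun := pm
      map_one' := pm_one
      map_mul' := fun σ τ => (pm_mul σ τ).symm }

@[simp] theorem pmGL_val (σ : Perm ι) : (pmGL (F := F) σ).1 = pm σ := rfl

end Pm

section Block

variable {F : Type*} [Field F] {m : ℕ}

/-- The block permutation. -/
def liftI : Perm (Fin m) →* Perm (Fin 2 × Fin m) where
  toFun σ := Equiv.prodCongrRight fun _ => σ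
  map_one' := by
    ext ⟨a, k⟩ <;> simp
  map_mul' σ τ := by
    ext ⟨a, k⟩ <;> simp

@[simp] theorem liftI_apply (σ : Perm (Fin m)) (a : Fin 2) (k : Fin m) :
    liftI σ (a, k) = (a, σ k) := rfl

@[simp] theorem liftI_inv_apply (σ : Perm (Fin m)) (a : Fin 2) (k : Fin m) :
    (liftI σ)⁻¹ (a, k) = (a, σ⁻¹ k) := by
  rw [Perm.inv_eq_iff_eq]
  simp

theorem sign_liftI (σ : Perm (Fin m)) : Perm.sign (liftI σ) = 1 := by
  change Perm.sign (Equiv.prodCongrRight fun _ : Fin 2 => σ) = 1
  rw [Equiv.Perm.sign_prodCongrRight]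
  simp [← sq]

/-- The block-diagonal homomorphism. -/
def glD : (Fin m → GL (Fin 2) F) →* GL (Fin 2 × Fin m) F :=
  (Units.map (blockDiagonalRingHom (Fin 2) (Fin m) F : _ →* _)).comp
    (MulEquiv.piUnits (M := fun _ : Fin m => Matrix (Fin 2) (Fin 2) F)).symm.toMonoidHom

@[simp] theorem glD_val (x : Fin m → GL (Fin 2) F) :
    (glD x).1 = blockDiagonal fun k => (x k).1 := rfl

/-- The block permutation homomorphism. -/
def glPm : Perm (Fin m) →* GL (Fin 2 × Fin m) F := pmGL.comp liftI

@[simp] theorem glPm_val (σ : Perm (Fin m)) : (glPm (F := F) σ).1 = pm (liftI σ) := rfl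

theorem det_glD (x : Fin m → GL (Fin 2) F) :
    GeneralLinearGroup.det (glD x) = ∏ k, GeneralLinearGroup.det (x k) := by
  ext
  simp [det_blockDiagonal]

theorem det_glPm (σ : Perm (Fin m)) : GeneralLinearGroup.det (glPm (F := F) σ) = 1 := by
  ext
  simp [det_pm, sign_liftI]

theorem glWrData : WrData (glD (F := F) (m := m)) glPm where
  conj σ x := by
    apply Units.ext
    ext ⟨a, k⟩ ⟨b, l⟩
    simp only [Units.val_mul, glPm_val, glD_val]
    rw [pm_mul_apply (ι := Fin 2 × Fin m), mul_pm_apply (ι := Fin 2 × Fin m)]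
    simp only [liftI_inv_apply, liftI_apply, blockDiagonal_apply', Perm.inv_eq_iff_eq]
  uniq x y σ τ h := by
    have hm := congrArg Units.val h
    simp only [Units.val_mul, glPm_val, glD_val] at hm
    have he : ∀ (a b : Fin 2) (k l : Fin m),
        (if k = σ l then (x k).1 a b else 0) = (if k = τ l then (y k).1 a b else 0) := by
      intro a b k l
      have := congrFun (congrFun hm (a, k)) (b, l)
      rw [mul_pm_apply (ι := Fin 2 × Fin m), mul_pm_apply (ι := Fin 2 × Fin m)] at this
      simpa only [liftI_apply, blockDiagonal_apply'] using this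
    have hστ : σ = τ := Equiv.ext fun l => by
      by_contra hc
      have h0 : (x (σ l)).1 = 0 := by
        ext a b
        have := he a b (σ l) l
        simpa [hc] using this
      have := (x (σ l)).isUnit
      rw [h0] at this
      exact not_isUnit_zero this
    subst hστ
    refine ⟨funext fun k => ?_, rfl⟩
    obtain ⟨l, rfl⟩ := σ.surjective k
    apply Units.ext
    ext a b
    simpa using he a b (σ l) l

end Block

section Mono

variable {F : Type*} [Field F] {n : ℕ}

/-- The diagonal homomorphism. -/
def monoD : (Fin n → Fˣ) →* GL (Fin n) F :=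
  (Units.map (diagonalRingHom (Fin n) F : _ →* _)).comp
    (MulEquiv.piUnits (M := fun _ : Fin n => F)).symm.toMonoidHom

@[simp] theorem monoD_val (x : Fin n → Fˣ) : (monoD x).1 = diagonal fun k => (x k : F) := rfl

theorem det_monoD (x : Fin n → Fˣ) : GeneralLinearGroup.det (monoD x) = ∏ k, x k := by
  ext
  simp

theorem det_pmGL (σ : Perm (Fin n)) :
    ((GeneralLinearGroup.det (pmGL (F := F) σ) : Fˣ) : F) = ((Perm.sign σ : ℤˣ) : ℤ) := by
  simp [det_pm]

theorem monoWrData : WrData (monoD (F := F) (n := n)) pmGL where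
  conj σ x := by
    apply Units.ext
    ext k l
    simp only [Units.val_mul, pmGL_val, monoD_val]
    rw [pm_mul_apply (ι := Fin n), mul_pm_apply (ι := Fin n), diagonal_apply, diagonal_apply]
    by_cases h : k = σ l
    · subst h
      simp
    · have h' : ¬ ((Equiv.symm σ) k = l) := fun hc => h (by rw [← hc]; simp)
      simp [h, h']
  uniq x y σ τ h := by
    have hm := congrArg Units.val h
    simp only [Units.val_mul, pmGL_val, monoD_val] at hm
    have he : ∀ (k l : Fin n),
        (if k = σ l then (x k : F) else 0) = (if k = τ l then (y k : F) else 0) := by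
      intro k l
      have := congrFun (congrFun hm k) l
      rw [mul_pm_apply (ι := Fin n), mul_pm_apply (ι := Fin n)] at this
      simpa only [diagonal_apply] using this
    have hστ : σ = τ := Equiv.ext fun l => by
      by_contra hc
      have h0 := he (σ l) l
      simp [hc] at h0
    subst hστ
    refine ⟨funext fun k => ?_, rfl⟩
    obtain ⟨l, rfl⟩ := σ.surjective k
    apply Units.ext
    simpa using he (σ l) l

end Mono

section MapData

variable {Γ Γ' R : Type*} [Group Γ] [Group Γ'] [Group R] {n : ℕ}

/-- Wreath data transported along an injective homomorphism. -/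
theorem WrData.map {D : (Fin n → R) →* Γ} {Pm : Perm (Fin n) →* Γ} (h : WrData D Pm)
    (φ : Γ →* Γ') (hφ : Function.Injective φ) : WrData (φ.comp D) (φ.comp Pm) where
  conj σ x := by
    simp only [MonoidHom.comp_apply]
    rw [← map_mul, ← map_mul, h.conj]
  uniq x y σ τ he := by
    simp only [MonoidHom.comp_apply] at he
    rw [← map_mul, ← map_mul] at he
    exact h.uniq x y σ τ (hφ he)

end MapData

end Cfsg.Agent.Lib.AltChar
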