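import Mathlib
import Cfsg.Agent.Lib.KS2.QuatSylow
import Cfsg.Agent.Lib.KS2.SL2Unip

/-!
# Sylow `2`-subgroups of `SL₂(q)`, `q` odd: squares lie in the commutator subgroup.
-/

set_option autoImplicit false
set_option linter.unusedSimpArgs false
set_option linter.unusedVariables false

namespace Cfsg.Agent.Lib.AltChar

open Matrix Cfsg.Agent.Lib.KS2.SL2
open scoped MatrixGroups

variable {F : Type*} [Field F]

theorem dic_sylow_exp [Finite F] {T : Subgroup SL(2, F)} {w : SL(2, F)} (hD : IsDic T w)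
    (hcyc : IsCyclic T) (h4 : 4 ∣ Nat.card T) (hidx : ¬ 4 ∣ T.index) :
    ∃ S₀ : Sylow 2 SL(2, F), ∀ g ∈ (S₀ : Subgroup SL(2, F)),
      g ^ 2 ∈ ⁅(S₀ : Subgroup SL(2, F)), (S₀ : Subgroup SL(2, F))⁆ := by
  classical
  have hf2 : Fact (Nat.Prime 2) := ⟨Nat.prime_two⟩
  obtain ⟨Q₀⟩ : Nonempty (Sylow 2 T) := inferInstance
  set Q := (Q₀ : Subgroup T).map T.subtype with hQ
  have hQcard : Nat.card Q = Nat.card Q₀ :=
    (Nat.card_congr (Subgroup.equivMapOfInjective (Q₀ : Subgroup T) T.subtype T.subtype_injective).toEquiv).symm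
  have hQmul : Nat.card Q₀ * (Q₀ : Subgroup T).index = Nat.card T := Subgroup.card_mul_index _
  have hQodd : ¬ 2 ∣ (Q₀ : Subgroup T).index := Q₀.not_dvd_index
  have hQ4 : 4 ∣ Nat.card Q := by
    rw [hQcard]
    have hco : Nat.Coprime 4 (Q₀ : Subgroup T).index :=
      (Nat.Coprime.pow_left 2 ((Nat.Prime.coprime_iff_not_dvd Nat.prime_two).mpr hQodd))
    rw [← hQmul] at h4
    exact hco.dvd_of_dvd_mul_right h4
  have hData : QData T w Q := by
    refine ⟨hD, Subgroup.map_subtype_le _, Q₀.isPGroup'.map _, ?_⟩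
    intro t ht k htk
    have hnorm : Subgroup.zpowers (⟨t, ht⟩ : T) ≤ Subgroup.normalizer ((Q₀ : Subgroup T) : Set T) := by
      intro y _
      rw [Subgroup.mem_normalizer_iff]
      intro z
      have : y * z * y⁻¹ = z := by
        apply Subtype.ext
        have := hD.comm y.1 y.2 z.1 z.2
        simp only [Subgroup.coe_mul, Subgroup.coe_inv]
        rw [this, mul_inv_cancel_right]
      rw [this]
    have hp : IsPGroup 2 (Subgroup.zpowers (⟨t, ht⟩ : T)) := by
      rintro ⟨_, n, rfl⟩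
      refine ⟨k, ?_⟩
      apply Subtype.ext
      show ((⟨t, ht⟩ : T) ^ n) ^ (2 ^ k) = 1
      have h1 : (⟨t, ht⟩ : T) ^ (2 ^ k) = 1 := Subtype.ext htk
      rw [← zpow_natCast, ← _root_.zpow_mul, mul_comm, _root_.zpow_mul, zpow_natCast, h1, _root_.one_zpow]
    have hsup := IsPGroup.to_sup_of_normal_left' Q₀.isPGroup' hp hnorm
    have hmax := Q₀.is_maximal' hsup le_sup_left
    have hmem : (⟨t, ht⟩ : T) ∈ (Q₀ : Subgroup T) := by
      rw [← hmax]
      exact Subgroup.mem_sup_right (Subgroup.mem_zpowers _)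
    exact ⟨_, hmem, rfl⟩
  have hQcyc : IsCyclic Q := by
    have : IsCyclic (Q₀ : Subgroup T) := inferInstance
    exact (Subgroup.equivMapOfInjective (Q₀ : Subgroup T) T.subtype T.subtype_injective).isCyclic.mp this
  -- `S` is Sylow
  have hSi : ¬ 2 ∣ hData.S.index := by
    intro hdvd
    apply hidx
    have h1 := Subgroup.card_mul_index hData.S
    have h3 := Subgroup.card_mul_index T
    rw [hData.card_S, hQcard] at h1
    rw [← hQmul, ← h1] at h3
    have hpos : 0 < Nat.card Q₀ := Nat.card_pos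
    have h5 : (Q₀ : Subgroup T).index * T.index = 2 * hData.S.index := by
      apply Nat.eq_of_mul_eq_mul_left hpos
      calc Nat.card Q₀ * ((Q₀ : Subgroup T).index * T.index) = Nat.card Q₀ * (Q₀ : Subgroup T).index * T.index := by ring
        _ = 2 * Nat.card Q₀ * hData.S.index := h3
        _ = _ := by ring
    have h6 : 4 ∣ (Q₀ : Subgroup T).index * T.index := by
      rw [h5]
      obtain ⟨m, hm⟩ := hdvd
      exact ⟨m, by rw [hm]; ring⟩
    have hco : Nat.Coprime 4 (Q₀ : Subgroup T).index :=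
      (Nat.Coprime.pow_left 2 ((Nat.Prime.coprime_iff_not_dvd Nat.prime_two).mpr hQodd))
    exact hco.dvd_of_dvd_mul_left h6
  refine ⟨hData.isPGroup_S.toSylow hSi, ?_⟩
  change ∀ g ∈ hData.S, g ^ 2 ∈ ⁅hData.S, hData.S⁆
  have hsq : ∀ t ∈ Q, t ^ 2 ∈ ⁅hData.S, hData.S⁆ := by
    intro t ht
    have h1 : w * t * w⁻¹ * t⁻¹ ∈ ⁅hData.S, hData.S⁆ :=
      Subgroup.commutator_mem_commutator hData.w_mem (hData.le_S ht)
    have h2 : w * t * w⁻¹ * t⁻¹ = (t ^ 2)⁻¹ := by
      rw [hD.wt t (hData.le ht), sq, _root_.mul_inv_rev]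
    rw [h2] at h1
    simpa using inv_mem h1
  have hm : (mone : SL(2, F)) ∈ ⁅hData.S, hData.S⁆ := by
    -- `-1` is a square in the cyclic group `Q`
    obtain ⟨g, hg⟩ := hQcyc.exists_generator
    obtain ⟨k, hk⟩ := (Subgroup.mem_zpowers_iff.mp (hg ⟨mone, hData.mone_mem⟩))
    have h1 : g ^ (2 * k) = 1 := by
      rw [mul_comm, _root_.zpow_mul, hk]
      apply Subtype.ext
      simp [sq, mone_mul_self]
    have h2 : (Nat.card Q : ℤ) ∣ 2 * k := by
      rw [← orderOf_eq_card_of_forall_mem_zpowers hg]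
      exact orderOf_dvd_iff_zpow_eq_one.mpr h1
    have h3 : (2 : ℤ) ∣ k := by
      have h4' : (4 : ℤ) ∣ 2 * k := dvd_trans (by exact_mod_cast hQ4) h2
      omega
    obtain ⟨l, rfl⟩ := h3
    have h5 : ((g ^ l : Q) : SL(2, F)) ^ 2 = mone := by
      have : (g ^ l) ^ 2 = ⟨mone, hData.mone_mem⟩ := by
        rw [← hk, ← zpow_natCast, ← _root_.zpow_mul, mul_comm]
        rfl
      exact congrArg Subtype.val this
    rw [← h5]
    exact hsq _ (g ^ l).2
  intro g hg
  by_cases hgQ : g ∈ Q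
  · exact hsq g hgQ
  · rw [sq, hData.mul_self_of_not_mem hg hgQ]
    exact hm

/-- The case of all odd fields. -/
theorem sl2_sylow_exp [Fintype F] (hodd : Odd (Fintype.card F)) :
    ∃ S₀ : Sylow 2 SL(2, F), ∀ g ∈ (S₀ : Subgroup SL(2, F)),
      g ^ 2 ∈ ⁅(S₀ : Subgroup SL(2, F)), (S₀ : Subgroup SL(2, F))⁆ := by
  have h2 := two_ne_zero_of_odd hodd
  set q := Fintype.card F with hq
  have hq2 : 2 ≤ q := Fintype.one_lt_card
  have hcardG : Nat.card SL(2, F) = q * (q - 1) * (q + 1) := by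
    rw [card_SL2]
    have key : ∀ q : ℕ, 2 ≤ q → q * (q ^ 2 - 1) = q * (q - 1) * (q + 1) := by
      intro q hq
      obtain ⟨k, rfl⟩ : ∃ k, q = k + 1 := ⟨q - 1, by omega⟩
      simp only [Nat.add_sub_cancel]
      have : (k + 1) ^ 2 - 1 = k * (k + 1 + 1) := by
        have : (k + 1) ^ 2 = k * (k + 1 + 1) + 1 := by ring
        omega
      rw [this]; ring
    exact key q hq2
  obtain ⟨k, hk⟩ := hodd
  by_cases h14 : q % 4 = 1
  · -- split torus
    have hc := card_dtor (F := F)
    have hidx : (dtor F).index = q * (q + 1) := by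
      have h1 := Subgroup.card_mul_index (dtor F)
      rw [hc, hcardG] at h1
      have : (q - 1) * (dtor F).index = (q - 1) * (q * (q + 1)) := by
        rw [h1]; ring
      exact Nat.eq_of_mul_eq_mul_left (by omega) this
    have hni : ¬ 4 ∣ (dtor F).index := by
      rw [hidx]
      intro hd
      have h5 : (q * (q + 1)) % 4 = 0 := Nat.mod_eq_zero_of_dvd hd
      rw [Nat.mul_mod, Nat.add_mod, h14] at h5
      norm_num at h5
    exact dic_sylow_exp (isDic_dtor h2) isCyclic_dtor (by rw [hc]; omega) hni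
  · have h2r : ringChar F ≠ 2 := by
      intro h
      have := FiniteField.even_card_of_char_two h
      omega
    have h34 : q % 4 = 3 := by omega
    obtain ⟨a, r, s, ha, hrs, hf, hD⟩ := exists_nonsplit (F := F) h2r
    have hc := card_torus 0 (-a) hf
    have hidx : (torus 0 (-a)).index = q * (q - 1) := by
      have h1 := Subgroup.card_mul_index (torus 0 (-a))
      rw [hc, hcardG] at h1
      have : (q + 1) * (torus 0 (-a)).index = (q + 1) * (q * (q - 1)) := by
        rw [h1]; ring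
      exact Nat.eq_of_mul_eq_mul_left (by omega) this
    have hni : ¬ 4 ∣ (torus 0 (-a)).index := by
      rw [hidx]
      intro hd
      obtain ⟨m, hm⟩ : ∃ m, q = 4 * m + 3 := ⟨q / 4, by omega⟩
      have h5 : q * (q - 1) = 4 * (4 * m * m + 5 * m + 1) + 2 := by
        rw [hm, show 4 * m + 3 - 1 = 4 * m + 2 by omega]; ring
      rw [h5] at hd
      omega
    exact dic_sylow_exp hD (torus_isCyclic 0 (-a) hf) (by rw [hc]; omega) hni

end Cfsg.Agent.Lib.AltChar
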