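import Mathlib
import Cfsg.Agent.Lib.AltChar.SL2Exp
import Cfsg.Agent.Lib.AltChar.WrSub
import Cfsg.Agent.S0245

/-!
# The wreath product `SL₂(F) ≀ Sym(n)` in `Sp_{2n}(F)`.
-/

set_option autoImplicit false
set_option linter.unusedSectionVars false

open Equiv Matrix
open scoped MatrixGroups

namespace Cfsg.Agent.Lib.AltChar

section Perm

variable {F : Type*} [Field F] {n : ℕ}

/-- The permutation matrix with `1` at `(σ j, j)`. -/
def pmat (σ : Perm (Fin n)) : Matrix (Fin n) (Fin n) F := Matrix.of fun i j => if i = σ j then 1 else 0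

@[simp] theorem pmat_apply (σ : Perm (Fin n)) (i j : Fin n) :
    pmat (F := F) σ i j = if i = σ j then 1 else 0 := rfl

theorem pmat_mul (σ τ : Perm (Fin n)) : pmat (F := F) σ * pmat τ = pmat (σ * τ) := by
  ext i j
  simp only [Matrix.mul_apply, pmat_apply, Perm.mul_apply]
  rw [Finset.sum_eq_single (τ j)]
  · simp only [if_true, mul_one]
    congr
  · intro b _ hb
    simp [hb]
  · simp

theorem pmat_one : pmat (F := F) (1 : Perm (Fin n)) = 1 := by
  ext i j
  rw [pmat_apply, Matrix.one_apply]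
  rfl

theorem pmat_mul_transpose (σ : Perm (Fin n)) : pmat (F := F) σ * (pmat σ)ᵀ = 1 := by
  ext i j
  simp only [Matrix.mul_apply, transpose_apply, pmat_apply, Matrix.one_apply]
  by_cases h : i = j
  · subst h
    rw [Finset.sum_eq_single (σ⁻¹ i)]
    · simp
    · intro b _ hb
      have : i ≠ σ b := fun hc => hb (by rw [hc]; simp)
      simp [this]
    · simp
  · rw [if_neg h]
    refine Finset.sum_eq_zero fun k _ => ?_
    by_cases h1 : i = σ k
    · have h2 : j ≠ σ k := fun hc => h (h1.trans hc.symm)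
      simp [h2]
    · simp [h1]

theorem pmat_mul_diagonal (σ : Perm (Fin n)) (a : Fin n → F) :
    pmat σ * diagonal a = diagonal (fun i => a (σ⁻¹ i)) * pmat σ := by
  ext i j
  rw [Matrix.mul_diagonal, Matrix.diagonal_mul]
  by_cases h : i = σ j
  · subst h
    simp [mul_comm]
  · simp [h]

end Perm

section Block

variable {F : Type*} [Field F] {n : ℕ}

/-- The block-diagonal element. -/
def spBlock (x : Fin n → SL(2, F)) : Matrix (Fin n ⊕ Fin n) (Fin n ⊕ Fin n) F :=
  fromBlocks (diagonal fun i => (x i).1 0 0) (diagonal fun i => (x i).1 0 1)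
    (diagonal fun i => (x i).1 1 0) (diagonal fun i => (x i).1 1 1)

theorem spBlock_one : spBlock (1 : Fin n → SL(2, F)) = 1 := by
  unfold spBlock
  rw [← fromBlocks_one]
  congr 1 <;> (ext i j; simp [Matrix.diagonal_apply, Matrix.one_apply])

theorem spBlock_mul (x y : Fin n → SL(2, F)) : spBlock (x * y) = spBlock x * spBlock y := by
  unfold spBlock
  rw [fromBlocks_multiply]
  simp only [diagonal_mul_diagonal, diagonal_add]
  congr 1 <;> (congr 1; funext i; simp [Matrix.mul_apply, Fin.sum_univ_two])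

theorem det_rel' (g : SL(2, F)) : g.1 0 0 * g.1 1 1 - g.1 0 1 * g.1 1 0 = 1 := by
  have := g.2
  rwa [Matrix.det_fin_two] at this

theorem spBlock_mem (x : Fin n → SL(2, F)) : spBlock x ∈ symplecticGroup (Fin n) F := by
  rw [SymplecticGroup.mem_iff]
  unfold spBlock J
  rw [fromBlocks_transpose, fromBlocks_multiply, fromBlocks_multiply]
  simp only [diagonal_transpose, mul_zero, zero_mul, add_zero, zero_add, mul_neg, mul_one, neg_mul,
    diagonal_mul_diagonal]
  have h : ∀ i, (x i).1 0 0 * (x i).1 1 1 - (x i).1 0 1 * (x i).1 1 0 = 1 := fun i => det_rel' _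
  congr 1
  · ext i j
    by_cases hij : i = j
    · subst hij
      simp [Matrix.diagonal_apply, mul_comm]
    · simp [Matrix.diagonal_apply, hij]
  · ext i j
    by_cases hij : i = j
    · subst hij
      have := h i
      simp [Matrix.diagonal_apply, Matrix.one_apply]
      linear_combination (-1 : F) * this
    · simp [Matrix.diagonal_apply, Matrix.one_apply, hij]
  · ext i j
    by_cases hij : i = j
    · subst hij
      have := h i
      simp [Matrix.diagonal_apply, Matrix.one_apply]
      linear_combination this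
    · simp [Matrix.diagonal_apply, Matrix.one_apply, hij]
  · ext i j
    by_cases hij : i = j
    · subst hij
      simp [Matrix.diagonal_apply, mul_comm]
    · simp [Matrix.diagonal_apply, hij]

/-- The block permutation. -/
def spPerm (σ : Perm (Fin n)) : Matrix (Fin n ⊕ Fin n) (Fin n ⊕ Fin n) F :=
  fromBlocks (pmat σ) 0 0 (pmat σ)

theorem spPerm_one : spPerm (F := F) (1 : Perm (Fin n)) = 1 := by
  unfold spPerm
  rw [pmat_one, fromBlocks_one]

theorem spPerm_mul (σ τ : Perm (Fin n)) : spPerm (F := F) (σ * τ) = spPerm σ * spPerm τ := by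
  unfold spPerm
  rw [fromBlocks_multiply, pmat_mul]
  simp

theorem spPerm_mem (σ : Perm (Fin n)) : spPerm (F := F) σ ∈ symplecticGroup (Fin n) F := by
  rw [SymplecticGroup.mem_iff]
  unfold spPerm J
  rw [fromBlocks_transpose, fromBlocks_multiply, fromBlocks_multiply]
  simp [pmat_mul_transpose, transpose_zero]

/-- The base homomorphism. -/
def spD : (Fin n → SL(2, F)) →* symplecticGroup (Fin n) F where
  toFun x := ⟨spBlock x, spBlock_mem x⟩
  map_one' := Subtype.ext spBlock_one
  map_mul' x y := Subtype.ext (spBlock_mul x y)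

/-- The top homomorphism. -/
def spPm : Perm (Fin n) →* symplecticGroup (Fin n) F where
  toFun σ := ⟨spPerm σ, spPerm_mem σ⟩
  map_one' := Subtype.ext spPerm_one
  map_mul' σ τ := Subtype.ext (spPerm_mul σ τ)

theorem spBlock_spPerm_apply (x : Fin n → SL(2, F)) (σ : Perm (Fin n)) (i j : Fin n) :
    (spBlock x * spPerm σ : Matrix (Fin n ⊕ Fin n) (Fin n ⊕ Fin n) F) (Sum.inl i) (Sum.inl j) =
      (x i).1 0 0 * (if i = σ j then 1 else 0) ∧
    (spBlock x * spPerm σ : Matrix (Fin n ⊕ Fin n) (Fin n ⊕ Fin n) F) (Sum.inl i) (Sum.inr j) =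
      (x i).1 0 1 * (if i = σ j then 1 else 0) ∧
    (spBlock x * spPerm σ : Matrix (Fin n ⊕ Fin n) (Fin n ⊕ Fin n) F) (Sum.inr i) (Sum.inl j) =
      (x i).1 1 0 * (if i = σ j then 1 else 0) ∧
    (spBlock x * spPerm σ : Matrix (Fin n ⊕ Fin n) (Fin n ⊕ Fin n) F) (Sum.inr i) (Sum.inr j) =
      (x i).1 1 1 * (if i = σ j then 1 else 0) := by
  unfold spBlock spPerm
  rw [fromBlocks_multiply]
  simp [Matrix.diagonal_mul]

theorem spWrData : WrData (spD (F := F) (n := n)) spPm where
  conj σ x := by
    apply Subtype.ext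
    change spPerm σ * spBlock x = spBlock _ * spPerm σ
    unfold spPerm spBlock
    rw [fromBlocks_multiply, fromBlocks_multiply]
    simp [pmat_mul_diagonal]
  uniq x y σ τ h := by
    have hm : spBlock x * spPerm σ = spBlock y * spPerm τ := congrArg Subtype.val h
    have key : ∀ i j, (i = σ j → i ≠ τ j → False) := by
      intro i j h1 h2
      have h3 := spBlock_spPerm_apply x σ i j
      have h4 := spBlock_spPerm_apply y τ i j
      rw [hm] at h3
      have e0 := h3.1.symm.trans h4.1
      have e1 := h3.2.1.symm.trans h4.2.1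
      have e2 := h3.2.2.1.symm.trans h4.2.2.1
      have e3 := h3.2.2.2.symm.trans h4.2.2.2
      simp only [if_pos h1, if_neg h2, mul_one, mul_zero] at e0 e1 e2 e3
      have := det_rel' (x i)
      rw [e0, e1, e3] at this
      simp at this
    have hστ : σ = τ := Equiv.ext fun j => by
      by_contra hc
      exact key (σ j) j rfl hc
    subst hστ
    refine ⟨funext fun i => ?_, rfl⟩
    obtain ⟨j, rfl⟩ := σ.surjective i
    have h3 := spBlock_spPerm_apply x σ (σ j) j
    have h4 := spBlock_spPerm_apply y σ (σ j) j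
    rw [hm] at h3
    have e0 := h3.1.symm.trans h4.1
    have e1 := h3.2.1.symm.trans h4.2.1
    have e2 := h3.2.2.1.symm.trans h4.2.2.1
    have e3 := h3.2.2.2.symm.trans h4.2.2.2
    simp only [if_true, mul_one] at e0 e1 e2 e3
    apply Subtype.ext
    ext a b
    fin_cases a <;> fin_cases b
    · exact e0
    · exact e1
    · exact e2
    · exact e3

end Block

section Numbers

theorem val_pow_two_mul_sub_one {q : ℕ} (hq : 2 ≤ q) (hodd : Odd q) {k : ℕ} (hk : k ≠ 0) :
    padicValNat 2 (q ^ (2 * k) - 1) = padicValNat 2 (q ^ 2 - 1) + padicValNat 2 k := by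
  have hnd : ¬ 2 ∣ q := by
    obtain ⟨c, rfl⟩ := hodd
    omega
  have hd : 2 ∣ q - 1 := by
    obtain ⟨c, rfl⟩ := hodd
    simp
  have h1 := padicValNat.pow_two_sub_pow (x := q) (y := 1) (by omega) hd hnd (n := 2 * k)
    (by omega) (even_two_mul k)
  have h2 := padicValNat.pow_two_sub_pow (x := q) (y := 1) (by omega) hd hnd (n := 2)
    (by omega) even_two
  have h3 : padicValNat 2 (2 * k) = 1 + padicValNat 2 k := by
    rw [padicValNat.mul (by omega) hk, padicValNat.self (by omega)]
  rw [h3] at h1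
  simp only [one_pow, padicValNat.self (show 1 < 2 by omega)] at h1 h2
  omega

theorem val_prod_sp {q : ℕ} (hq : 2 ≤ q) (hodd : Odd q) (n : ℕ) :
    padicValNat 2 (∏ i ∈ Finset.range n, (q ^ (2 * (i + 1)) - 1)) =
      n * padicValNat 2 (q ^ 2 - 1) + padicValNat 2 n.factorial := by
  have hne : ∀ k, k ≠ 0 → q ^ (2 * k) - 1 ≠ 0 := by
    intro k hk
    have : 1 < q ^ (2 * k) := Nat.one_lt_pow (by omega) (by omega)
    omega
  induction n with
  | zero => simp
  | succ n ih =>
    rw [Finset.prod_range_succ, padicValNat.mul _ (hne _ (by omega)), ih,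
      val_pow_two_mul_sub_one hq hodd (by omega), Nat.factorial_succ,
      padicValNat.mul (by omega) (Nat.factorial_ne_zero n)]
    · ring
    · exact Finset.prod_ne_zero_iff.mpr fun i _ => hne _ (by omega)

end Numbers

section Main

variable {F : Type*} [Field F] [Fintype F]

/-- Sylow `2`-subgroups of `Sp_{2n}(q)`, `q` odd. -/
theorem sp_sylow_exp (hF : Odd (Fintype.card F)) (n : ℕ)
    (P : Sylow 2 (symplecticGroup (Fin n) F)) :
    ∀ x : (P : Subgroup (symplecticGroup (Fin n) F)),
      x ^ 2 ∈ commutator (P : Subgroup (symplecticGroup (Fin n) F)) := by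
  classical
  haveI : Fact (Nat.Prime 2) := ⟨Nat.prime_two⟩
  obtain ⟨S₀, hS₀⟩ := sl2_sylow_exp (F := F) hF
  obtain ⟨T, U, hT, hmod⟩ := exists_model 2 n (Fin n) (by simp)
  set q := Fintype.card F with hq
  have hq2 : 2 ≤ q := Fintype.one_lt_card
  refine sylow_exp_of_sub 2 (wrSub spWrData (S₀ : Subgroup SL(2, F)) T) ?_
    (pow_mem_wrSub spWrData 2 hS₀ hmod.pow_mem) P
  rw [card_wrSub, hT, Sylow.card_eq_multiplicity S₀, Nat.factorization_def _ Nat.prime_two,
    Nat.factorization_def _ Nat.prime_two, Cfsg.Agent.S0245.result hq.symm n,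
    Cfsg.Agent.Lib.KS2.SL2.card_SL2, ← hq, ← pow_mul, ← pow_add]
  congr 1
  have hnd : ¬ 2 ∣ q := by
    obtain ⟨c, hc⟩ := hF
    omega
  have hv : ∀ k, padicValNat 2 (q ^ k) = 0 := fun k =>
    padicValNat.eq_zero_of_not_dvd fun h => hnd (Nat.Prime.dvd_of_dvd_pow Nat.prime_two h)
  have hne1 : q ^ 2 - 1 ≠ 0 := by
    have : 1 < q ^ 2 := Nat.one_lt_pow (by omega) (by omega)
    omega
  have hne2 : ∏ i ∈ Finset.range n, (q ^ (2 * (i + 1)) - 1) ≠ 0 := by
    refine Finset.prod_ne_zero_iff.mpr fun i _ => ?_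
    have : 1 < q ^ (2 * (i + 1)) := Nat.one_lt_pow (by omega) (by omega)
    omega
  rw [padicValNat.mul (by positivity) hne2, padicValNat.mul (by omega) hne1, hv,
    padicValNat.eq_zero_of_not_dvd hnd, val_prod_sp hq2 hF]
  ring

end Main

end Cfsg.Agent.Lib.AltChar
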