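import Mathlib
import Cfsg.Agent.Lib.AltChar.SpWr
import Cfsg.Agent.Lib.Classical.Basic

/-!
# The `2`-part of `|SL_n(q)|`, `q` odd.
-/

set_option autoImplicit false
set_option linter.unusedSectionVars false

namespace Cfsg.Agent.Lib.AltChar

/-- `f(n) = ∑_{j < n} v₂(q^(j+1) - 1)`. -/
def fVal (q n : ℕ) : ℕ := ∑ j ∈ Finset.range n, padicValNat 2 (q ^ (j + 1) - 1)

theorem fVal_succ (q n : ℕ) : fVal q (n + 1) = fVal q n + padicValNat 2 (q ^ (n + 1) - 1) :=
  Finset.sum_range_succ _ _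

theorem val_gl_prod {q : ℕ} (hq : 2 ≤ q) (hodd : Odd q) (n : ℕ) :
    padicValNat 2 (∏ i : Fin n, (q ^ n - q ^ (i : ℕ))) = fVal q n := by
  have hnd : ¬ 2 ∣ q := by
    obtain ⟨c, rfl⟩ := hodd
    omega
  have hv : ∀ k, padicValNat 2 (q ^ k) = 0 := fun k =>
    padicValNat.eq_zero_of_not_dvd fun h => hnd (Nat.Prime.dvd_of_dvd_pow Nat.prime_two h)
  have hne : ∀ k, k ≠ 0 → q ^ k - 1 ≠ 0 := by
    intro k hk
    have : 1 < q ^ k := Nat.one_lt_pow hk (by omega)
    omega
  rw [Fin.prod_univ_eq_prod_range (fun i => q ^ n - q ^ i) n]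
  have key : ∀ (s : Finset ℕ), (∀ i ∈ s, i < n) →
      padicValNat 2 (∏ i ∈ s, (q ^ n - q ^ i)) = ∑ i ∈ s, padicValNat 2 (q ^ (n - i) - 1) := by
    intro s
    induction s using Finset.induction_on with
    | empty => simp
    | insert a s ha ih =>
      intro hs
      have hfac : ∀ i, i < n → q ^ n - q ^ i = q ^ i * (q ^ (n - i) - 1) := by
        intro i hi
        rw [Nat.mul_sub, mul_one, ← pow_add]
        congr 2
        omega
      have hne2 : ∀ i, i < n → q ^ n - q ^ i ≠ 0 := by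
        intro i hi
        rw [hfac i hi]
        exact mul_ne_zero (pow_ne_zero _ (by omega)) (hne _ (by omega))
      rw [Finset.prod_insert ha, Finset.sum_insert ha,
        padicValNat.mul (hne2 a (hs a (by simp)))
          (Finset.prod_ne_zero_iff.mpr fun i hi => hne2 i (hs i (by simp [hi]))),
        ih fun i hi => hs i (by simp [hi]), hfac a (hs a (by simp)),
        padicValNat.mul (pow_ne_zero _ (by omega)) (hne _ (by have := hs a (by simp); omega)), hv,
        zero_add]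
  rw [key _ fun i hi => Finset.mem_range.mp hi, fVal, ← Finset.sum_range_reflect]
  refine Finset.sum_congr rfl fun i hi => ?_
  have := Finset.mem_range.mp hi
  congr 3
  omega

/-- `v₂(|SL_n(q)|) + v₂(q - 1) = f(n)`. -/
theorem val_card_SL {F : Type*} [Field F] [Fintype F] (hodd : Odd (Fintype.card F)) (n : ℕ) (hn : 1 ≤ n) :
    padicValNat 2 (Nat.card (Matrix.SpecialLinearGroup (Fin n) F)) +
      padicValNat 2 (Fintype.card F - 1) = fVal (Fintype.card F) n := by
  have hq : 2 ≤ Fintype.card F := Fintype.one_lt_card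
  have h := Cfsg.Agent.Lib.Classical.card_SL (F := F) rfl n hn
  rw [← val_gl_prod hq hodd, ← h, padicValNat.mul (by omega) Nat.card_pos.ne', add_comm]

/-- `v₂(|GL_n(q)|) = f(n)`. -/
theorem val_card_GL {F : Type*} [Field F] [Fintype F] (hodd : Odd (Fintype.card F)) (n : ℕ) :
    padicValNat 2 (Nat.card (Matrix.GeneralLinearGroup (Fin n) F)) = fVal (Fintype.card F) n := by
  have hq : 2 ≤ Fintype.card F := Fintype.one_lt_card
  rw [Matrix.card_GL_field, val_gl_prod hq hodd]

/-- Odd powers. -/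
theorem val_pow_odd_sub_one {q : ℕ} (hq : 2 ≤ q) (hodd : Odd q) {j : ℕ} (hj : Odd j) :
    padicValNat 2 (q ^ j - 1) = padicValNat 2 (q - 1) := by
  obtain ⟨x, rfl⟩ : ∃ x, q = x + 1 := ⟨q - 1, by omega⟩
  have h1 : (∑ i ∈ Finset.range j, (x + 1) ^ i) * x + 1 = (x + 1) ^ j := geom_sum_mul_add x j
  have hpar : ∀ n, (∑ i ∈ Finset.range n, (x + 1) ^ i) % 2 = n % 2 := by
    intro n
    induction n with
    | zero => simp
    | succ n ih =>
      rw [Finset.sum_range_succ, Nat.add_mod, ih]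
      have : (x + 1) ^ n % 2 = 1 := Nat.odd_iff.mp hodd.pow
      rw [this]
      omega
  have h2 : ¬ 2 ∣ ∑ i ∈ Finset.range j, (x + 1) ^ i := by
    have := hpar j
    have h3 := Nat.odd_iff.mp hj
    omega
  have hx : x ≠ 0 := by omega
  have hs : ∑ i ∈ Finset.range j, (x + 1) ^ i ≠ 0 := fun h0 => h2 (h0 ▸ dvd_zero _)
  rw [← h1, Nat.add_sub_cancel, Nat.add_sub_cancel, padicValNat.mul hs hx,
    padicValNat.eq_zero_of_not_dvd h2, zero_add]

section ThreeMod

variable {q : ℕ} (hq : 2 ≤ q) (hq4 : 4 ∣ q + 1)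

include hq hq4

theorem odd_of_three : Odd q := by
  obtain ⟨c, hc⟩ := hq4
  exact ⟨2 * c - 1, by omega⟩

theorem val_sub_one_of_three : padicValNat 2 (q - 1) = 1 := by
  obtain ⟨c, hc⟩ := hq4
  have h1 : q - 1 = 2 * (2 * c - 1) := by omega
  have h2 : ¬ 2 ∣ 2 * c - 1 := by omega
  have h3 : c ≠ 0 := by omega
  rw [h1, padicValNat.mul (by omega) (by omega), padicValNat.self (by omega),
    padicValNat.eq_zero_of_not_dvd h2]

/-- `f(2 m) = m (1 + w) + v₂(m!)`. -/
theorem fVal_two_mul (m : ℕ) :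
    fVal q (2 * m) = m * (1 + padicValNat 2 (q ^ 2 - 1)) + padicValNat 2 m.factorial := by
  have hodd := odd_of_three hq hq4
  induction m with
  | zero => simp [fVal]
  | succ m ih =>
    have e : 2 * (m + 1) = 2 * m + 1 + 1 := by ring
    rw [e, fVal_succ, fVal_succ, ih, val_pow_odd_sub_one hq hodd (j := 2 * m + 1) ⟨m, rfl⟩,
      val_sub_one_of_three hq hq4, show 2 * m + 1 + 1 = 2 * (m + 1) by ring,
      val_pow_two_mul_sub_one hq hodd (by omega), Nat.factorial_succ,
      padicValNat.mul (by omega) (Nat.factorial_ne_zero m)]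
    ring

theorem fVal_two_mul_add_one (m : ℕ) :
    fVal q (2 * m + 1) = fVal q (2 * m) + 1 := by
  have hodd := odd_of_three hq hq4
  rw [fVal_succ, val_pow_odd_sub_one hq hodd (j := 2 * m + 1) ⟨m, rfl⟩, val_sub_one_of_three hq hq4]

end ThreeMod

section OneMod

variable {q : ℕ} (hq : 2 ≤ q) (hq4 : 4 ∣ q - 1)

include hq hq4

theorem odd_of_one : Odd q := by
  obtain ⟨c, hc⟩ := hq4
  exact ⟨2 * c, by omega⟩

theorem val_add_one_of_one : padicValNat 2 (q + 1) = 1 := by
  obtain ⟨c, hc⟩ := hq4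
  have h1 : q + 1 = 2 * (2 * c + 1) := by omega
  have h2 : ¬ 2 ∣ 2 * c + 1 := by omega
  rw [h1, padicValNat.mul (by omega) (by omega), padicValNat.self (by omega),
    padicValNat.eq_zero_of_not_dvd h2]

theorem val_pow_sub_one_of_one {j : ℕ} (hj : j ≠ 0) :
    padicValNat 2 (q ^ j - 1) = padicValNat 2 (q - 1) + padicValNat 2 j := by
  have hodd := odd_of_one hq hq4
  rcases Nat.even_or_odd j with he | ho
  · have hnd : ¬ 2 ∣ q := by
      obtain ⟨c, hc⟩ := hodd
      omega
    have hd : 2 ∣ q - 1 := by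
      obtain ⟨c, hc⟩ := hq4
      omega
    have h1 := padicValNat.pow_two_sub_pow (x := q) (y := 1) (by omega) hd hnd hj he
    rw [one_pow, val_add_one_of_one hq hq4] at h1
    omega
  · rw [val_pow_odd_sub_one hq hodd ho, padicValNat.eq_zero_of_not_dvd (p := 2) (n := j)
      (by obtain ⟨c, hc⟩ := ho; omega), add_zero]

/-- `f(n) = n v + v₂(n!)`. -/
theorem fVal_of_one (n : ℕ) :
    fVal q n = n * padicValNat 2 (q - 1) + padicValNat 2 n.factorial := by
  induction n with
  | zero => simp [fVal]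
  | succ n ih =>
    rw [fVal_succ, ih, val_pow_sub_one_of_one hq hq4 (by omega), Nat.factorial_succ,
      padicValNat.mul (by omega) (Nat.factorial_ne_zero n)]
    ring

end OneMod

end Cfsg.Agent.Lib.AltChar
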