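import Mathlib
import Cfsg.Agent.Lib.AltChar.SLVal
import Cfsg.Agent.Lib.AltChar.GLWr

/-!
# Sylow `2`-subgroups of `GL₂(q)`, `q ≡ 3 mod 4`.
-/

set_option autoImplicit false
set_option linter.unusedSectionVars false

open Equiv Matrix
open scoped MatrixGroups

namespace Cfsg.Agent.Lib.AltChar

/-- Index-two subgroups via a coset representative. -/
theorem card_eq_two_mul_of_coset {G : Type*} [Group G] {H K : Subgroup G} {b : G} (hKH : K ≤ H)
    (hb : b ∈ H) (hbK : b ∉ K) (hdec : ∀ x ∈ H, x ∈ K ∨ x * b⁻¹ ∈ K) :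
    Nat.card H = 2 * Nat.card K := by
  classical
  let F : Bool × K → H := fun p => if p.1 then ⟨p.2 * b, mul_mem (hKH p.2.2) hb⟩ else ⟨p.2, hKH p.2.2⟩
  have hF : Function.Bijective F := by
    constructor
    · rintro ⟨c, k⟩ ⟨c', k'⟩ h
      cases c <;> cases c' <;> simp only [F, if_true, if_false, Bool.false_eq_true] at h
      · have h1 : (k : G) = k' := congrArg (fun z : H => (z : G)) h
        have : k = k' := Subtype.ext h1
        rw [this]
      · exfalso
        have h1 : ((k : G)) = k' * b := congrArg Subtype.val h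
        apply hbK
        have : b = (k' : G)⁻¹ * k := by rw [h1]; group
        rw [this]
        exact mul_mem (inv_mem k'.2) k.2
      · exfalso
        have h1 : ((k : G) * b) = k' := congrArg Subtype.val h
        apply hbK
        have : b = (k : G)⁻¹ * k' := by rw [← h1]; group
        rw [this]
        exact mul_mem (inv_mem k.2) k'.2
      · have h1 : ((k : G) * b) = k' * b := congrArg Subtype.val h
        have : k = k' := Subtype.ext (mul_right_cancel h1)
        rw [this]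
    · rintro ⟨x, hx⟩
      rcases hdec x hx with h | h
      · exact ⟨(false, ⟨x, h⟩), rfl⟩
      · exact ⟨(true, ⟨x * b⁻¹, h⟩), Subtype.ext (by simp [F])⟩
  rw [← Nat.card_congr (Equiv.ofBijective F hF), Nat.card_prod]
  simp

/-- `E` passes to homomorphic images. -/
theorem exp_map {G G' : Type*} [Group G] [Group G'] (φ : G →* G') (p : ℕ) {M : Subgroup G}
    (hE : ∀ g ∈ M, g ^ p ∈ ⁅M, M⁆) : ∀ g ∈ M.map φ, g ^ p ∈ ⁅M.map φ, M.map φ⁆ := by
  rintro _ ⟨g, hg, rfl⟩
  rw [← Subgroup.map_commutator, ← map_pow]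
  exact Subgroup.mem_map_of_mem _ (hE g hg)

variable {F : Type*} [Field F]

/-- The data for `q ≡ 3 mod 4`. -/
structure GL2Data (H K : Subgroup (GL (Fin 2) F)) : Prop where
  le : K ≤ H
  mem_K : ∀ a, a ∈ K ↔ a ∈ H ∧ GeneralLinearGroup.det a = 1
  expK : ∀ a ∈ K, a ^ 2 ∈ ⁅K, K⁆
  dec : ∀ x ∈ H, ∃ k ∈ K, ∃ y ∈ H, x = k * y ∧ y ^ 2 = 1
  det_H : ∀ x ∈ H, GeneralLinearGroup.det x = 1 ∨ GeneralLinearGroup.det x = -1
  exists_b : ∃ b ∈ H, GeneralLinearGroup.det b = -1

theorem GL2Data.expH {H K : Subgroup (GL (Fin 2) F)} (h : GL2Data H K) :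
    ∀ x ∈ H, x ^ 2 ∈ ⁅H, H⁆ := by
  intro x hx
  obtain ⟨k, hk, y, hy, rfl, hy2⟩ := h.dec x hx
  refine mul_pow_mem_commutator H 2 (h.le hk) hy ?_ (by rw [hy2]; exact one_mem _)
  exact Subgroup.commutator_mono h.le h.le (h.expK k hk)

/-- The reflection `diag(1, -1)`. -/
def refl2 (h2 : (-1 : F) ≠ 0) : GL (Fin 2) F :=
  GeneralLinearGroup.mkOfDetNeZero (diagonal ![1, -1]) (by
    rw [det_diagonal]
    simp)

theorem refl2_sq (h2 : (-1 : F) ≠ 0) : refl2 h2 ^ 2 = 1 := by
  apply Units.ext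
  rw [sq, Units.val_mul]
  change diagonal ![(1 : F), -1] * diagonal ![(1 : F), -1] = 1
  rw [diagonal_mul_diagonal]
  ext i j
  fin_cases i <;> fin_cases j <;> simp

theorem det_refl2 (h2 : (-1 : F) ≠ 0) : GeneralLinearGroup.det (refl2 h2) = -1 := by
  apply Units.ext
  change (diagonal ![(1 : F), -1]).det = -1
  rw [det_diagonal]
  simp

variable [Fintype F]

theorem det_two_element (hq4 : 4 ∣ Fintype.card F + 1) (y : Fˣ) (k : ℕ) (hk : y ^ 2 ^ k = 1) :
    y = 1 ∨ y = -1 := by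
  have hq : 2 ≤ Fintype.card F := Fintype.one_lt_card
  obtain ⟨c, hc⟩ := hq4
  have h1 : y ^ (2 * (2 * c - 1)) = 1 := by
    have h2 : (y : F) ^ (Fintype.card F - 1) = 1 := FiniteField.pow_card_sub_one_eq_one _ y.ne_zero
    have h3 : Fintype.card F - 1 = 2 * (2 * c - 1) := by omega
    rw [h3] at h2
    apply Units.ext
    simpa using h2
  have h2 : orderOf y ∣ 2 * (2 * c - 1) := orderOf_dvd_of_pow_eq_one h1
  have h3 : orderOf y ∣ 2 ^ k := orderOf_dvd_of_pow_eq_one hk
  have h4 : orderOf y ∣ 2 := by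
    obtain ⟨j, -, hj⟩ := (Nat.dvd_prime_pow Nat.prime_two).mp h3
    rw [hj] at h2 ⊢
    rcases j with _ | j
    · simp
    · have hc0 : c ≠ 0 := by omega
      have h5 : Nat.Coprime (2 ^ (j + 1)) (2 * c - 1) :=
        Nat.Coprime.pow_left _ ((Nat.Prime.coprime_iff_not_dvd Nat.prime_two).mpr (by omega))
      have h6 := h5.dvd_of_dvd_mul_right (by rwa [mul_comm] at h2)
      exact h6
  have h5 : y ^ 2 = 1 := by
    obtain ⟨e, he⟩ := h4
    rw [he, pow_mul, pow_orderOf_eq_one, one_pow]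
  have h6 : (y : F) * y = 1 := by
    have := congrArg Units.val h5
    simpa [sq] using this
  rcases mul_self_eq_one_iff.mp h6 with h | h
  · exact Or.inl (Units.ext h)
  · exact Or.inr (Units.ext (by simpa using h))

/-- Existence. -/
theorem exists_gl2Data (hq4 : 4 ∣ Fintype.card F + 1) :
    ∃ H K : Subgroup (GL (Fin 2) F), GL2Data H K ∧
      Nat.card H = 2 ^ padicValNat 2 (Nat.card (GL (Fin 2) F)) := by
  classical
  haveI : Fact (Nat.Prime 2) := ⟨Nat.prime_two⟩
  have hq : 2 ≤ Fintype.card F := Fintype.one_lt_card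
  have hodd : Odd (Fintype.card F) := odd_of_three hq hq4
  have h1ne : (-1 : F) ≠ 0 := neg_ne_zero.mpr one_ne_zero
  set b := refl2 h1ne with hbdef
  have hb2 := refl2_sq h1ne
  have hbdet := det_refl2 h1ne
  have hp : IsPGroup 2 (Subgroup.zpowers b) := by
    rintro ⟨_, n, rfl⟩
    refine ⟨1, Subtype.ext ?_⟩
    change (b ^ n) ^ 2 ^ 1 = 1
    rw [pow_one, ← zpow_natCast, ← _root_.zpow_mul, mul_comm, _root_.zpow_mul, zpow_natCast, hb2,
      _root_.one_zpow]
  obtain ⟨H, hH⟩ := hp.exists_le_sylow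
  have hbH : b ∈ (H : Subgroup (GL (Fin 2) F)) := hH (Subgroup.mem_zpowers b)
  have hHcard : Nat.card (H : Subgroup (GL (Fin 2) F)) = 2 ^ padicValNat 2 (Nat.card (GL (Fin 2) F)) := by
    rw [Sylow.card_eq_multiplicity H, Nat.factorization_def _ Nat.prime_two]
  let K' : Subgroup SL(2, F) := (H : Subgroup (GL (Fin 2) F)).comap SpecialLinearGroup.toGL
  let K : Subgroup (GL (Fin 2) F) := K'.map SpecialLinearGroup.toGL
  have hmemK : ∀ a, a ∈ K ↔ a ∈ (H : Subgroup (GL (Fin 2) F)) ∧ GeneralLinearGroup.det a = 1 := by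
    intro a
    constructor
    · rintro ⟨a', ha', rfl⟩
      exact ⟨ha', SpecialLinearGroup.coeToGL_det a'⟩
    · rintro ⟨ha, hd⟩
      have hd' : (a : Matrix (Fin 2) (Fin 2) F).det = 1 := by
        have := congrArg Units.val hd
        simpa using this
      refine ⟨⟨a.1, hd'⟩, ?_, Units.ext rfl⟩
      change SpecialLinearGroup.toGL _ ∈ (H : Subgroup (GL (Fin 2) F))
      convert ha using 1
      exact Units.ext rfl
  have hdetH : ∀ x ∈ (H : Subgroup (GL (Fin 2) F)),
      GeneralLinearGroup.det x = 1 ∨ GeneralLinearGroup.det x = -1 := by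
    intro x hx
    obtain ⟨k, hk⟩ := H.isPGroup' ⟨x, hx⟩
    have h1 : x ^ 2 ^ k = 1 := congrArg Subtype.val hk
    refine det_two_element hq4 _ k ?_
    rw [← map_pow, h1, map_one]
  have hKH : K ≤ (H : Subgroup (GL (Fin 2) F)) := fun a ha => ((hmemK a).mp ha).1
  have hdec : ∀ x ∈ (H : Subgroup (GL (Fin 2) F)), x ∈ K ∨ x * b⁻¹ ∈ K := by
    intro x hx
    rcases hdetH x hx with h | h
    · exact Or.inl ((hmemK x).mpr ⟨hx, h⟩)
    · refine Or.inr ((hmemK _).mpr ⟨mul_mem hx (inv_mem hbH), ?_⟩)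
      rw [map_mul, map_inv, h, hbdet]
      simp
  have hbK : b ∉ K := by
    intro h
    have h1 := ((hmemK b).mp h).2
    rw [hbdet] at h1
    have h2 := congrArg Units.val h1
    simp only [Units.val_neg, Units.val_one] at h2
    have h3 : (2 : F) = 0 := by
      linear_combination -h2
    exact Cfsg.Agent.Lib.KS2.SL2.two_ne_zero_of_odd hodd h3
  have hcardK := card_eq_two_mul_of_coset hKH hbH hbK hdec
  have hK'K : Nat.card K' = Nat.card K :=
    Nat.card_congr (Subgroup.equivMapOfInjective K' _ SpecialLinearGroup.toGL_injective).toEquiv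
  have hvalGL := val_card_GL hodd 2
  have hvalSL := val_card_SL hodd 2 (by omega)
  have hv1 := val_sub_one_of_three hq hq4
  have hK'card : Nat.card K' = 2 ^ (Nat.card SL(2, F)).factorization 2 := by
    rw [Nat.factorization_def _ Nat.prime_two, hK'K]
    have h3 : padicValNat 2 (Nat.card (GL (Fin 2) F)) = padicValNat 2 (Nat.card SL(2, F)) + 1 := by
      rw [hvalGL, ← hvalSL, hv1]
    rw [hHcard, h3, pow_succ, mul_comm] at hcardK
    exact (Nat.eq_of_mul_eq_mul_left (by norm_num) hcardK).symm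
  obtain ⟨S₀, hS₀⟩ := sl2_sylow_exp (F := F) hodd
  have hexpK' : ∀ a ∈ K', a ^ 2 ∈ ⁅K', K'⁆ := by
    intro a ha
    have h1 := sylow_exp_of_sylow 2 S₀ hS₀ (Sylow.ofCard K' hK'card) ⟨a, ha⟩
    rw [mem_commutator_coe] at h1
    exact h1
  refine ⟨H, K, ⟨hKH, hmemK, exp_map _ 2 hexpK', ?_, hdetH, ⟨b, hbH, hbdet⟩⟩, hHcard⟩
  intro x hx
  rcases hdec x hx with h | h
  · exact ⟨x, h, 1, one_mem _, by simp, one_pow _⟩
  · exact ⟨x * b⁻¹, h, b, hbH, by simp, hb2⟩

end Cfsg.Agent.Lib.AltChar
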