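import Mathlib
import Cfsg.Prelude.Def_Transfer
import Cfsg.Agent.Lib.AltChar.WrSub

/-!
# Normal `2`-rank of abstract wreath products.
-/

set_option autoImplicit false
set_option linter.unusedSectionVars false

open Equiv

namespace Cfsg.Agent.Lib.AltChar

/-- The normal `2`-rank is `k`. -/
def NormalRankIs (A : Type*) [Group A] (k : ℕ) : Prop :=
  (∃ E : Subgroup A, E.Normal ∧ Cfsg.IsElementaryAbelian 2 E ∧ 2 ^ k ≤ Nat.card E) ∧
    ∀ E : Subgroup A, E.Normal → Cfsg.IsElementaryAbelian 2 E → Nat.card E ≤ 2 ^ k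

section Congr

variable {A B : Type*} [Group A] [Group B]

theorem ea_map (φ : A ≃* B) {E : Subgroup A} (hE : Cfsg.IsElementaryAbelian 2 E) :
    Cfsg.IsElementaryAbelian 2 (E.map φ.toMonoidHom) := by
  refine ⟨⟨⟨?_⟩⟩, ?_⟩
  · rintro ⟨_, a, ha, rfl⟩ ⟨_, b, hb, rfl⟩
    apply Subtype.ext
    have h1 : (⟨a, ha⟩ : E) * ⟨b, hb⟩ = ⟨b, hb⟩ * ⟨a, ha⟩ := by
      haveI := hE.1
      exact mul_comm' _ _
    have h2 : a * b = b * a := congrArg (fun z : E => (z : A)) h1
    show φ a * φ b = φ b * φ a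
    rw [← map_mul, ← map_mul, h2]
  · rintro _ ⟨a, ha, rfl⟩
    show (φ a) ^ 2 = 1
    rw [← map_pow, hE.2 a ha, map_one]

theorem card_map_equiv (φ : A ≃* B) (E : Subgroup A) :
    Nat.card (E.map φ.toMonoidHom) = Nat.card E :=
  Nat.card_congr (Subgroup.equivMapOfInjective E φ.toMonoidHom φ.injective).toEquiv.symm

theorem NormalRankIs.congr (φ : A ≃* B) {k : ℕ} (h : NormalRankIs A k) : NormalRankIs B k := by
  obtain ⟨⟨E, hn, he, hc⟩, hle⟩ := h
  refine ⟨⟨E.map φ.toMonoidHom, hn.map _ φ.surjective, ea_map φ he, by rwa [card_map_equiv]⟩, ?_⟩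
  intro E' hn' he'
  have h1 := hle (E'.map φ.symm.toMonoidHom) (hn'.map _ φ.symm.surjective) (ea_map φ.symm he')
  rwa [card_map_equiv] at h1

end Congr

section Abstract

variable {Γ R : Type*} [Group Γ] [Group R] {n : ℕ}
  {D : (Fin n → R) →* Γ} {Pm : Perm (Fin n) →* Γ}

theorem WrData.D_injective (h : WrData D Pm) : Function.Injective D := by
  intro x y hxy
  exact (h.uniq x y 1 1 (by simp [hxy])).1

/-- Conjugation of the base by a permutation. -/
theorem WrData.conj' (h : WrData D Pm) (σ : Perm (Fin n)) (x : Fin n → R) :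
    Pm σ * D x * (Pm σ)⁻¹ = D (fun i => x (σ⁻¹ i)) := by
  rw [h.conj, mul_inv_cancel_right]

/-- Data on the base group needed for the normal rank. -/
structure RankData (R₀ Ω : Subgroup R) : Prop where
  le : Ω ≤ R₀
  central : ∀ w ∈ Ω, ∀ a ∈ R₀, a * w = w * a
  sq : ∀ w ∈ Ω, w ^ 2 = 1
  wit : ∃ a ∈ R₀, a ^ 2 ≠ 1
  inv : ∀ c ∈ R₀, c ^ 2 = 1 → c ∈ Ω ∨ ∃ b ∈ R₀, (b * c * b⁻¹ * c⁻¹) ^ 2 ≠ 1

theorem mulSingle_mem {R₀ : Subgroup R} [DecidableEq (Fin n)] (i : Fin n) {a : R} (ha : a ∈ R₀)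
    (j : Fin n) : (Pi.mulSingle i a : Fin n → R) j ∈ R₀ := by
  by_cases hj : j = i
  · subst hj
    simpa using ha
  · rw [Pi.mulSingle_eq_of_ne hj]
    exact one_mem _

/-- A normal exponent-`2` subgroup of the wreath product lies in the base over `Ω`. -/
theorem mem_base_of_normal {R₀ Ω : Subgroup R} (hR : RankData R₀ Ω) (h : WrData D Pm)
    (T : Subgroup (Perm (Fin n))) (E : Subgroup (wrSub h R₀ T)) (hn : E.Normal)
    (hE : ∀ e ∈ E, e ^ 2 = 1) (e : wrSub h R₀ T) (he : e ∈ E) :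
    ∃ x : Fin n → R, (∀ i, x i ∈ Ω) ∧ (e : Γ) = D x := by
  classical
  -- squares of commutators
  have hcomm : ∀ (b : Γ), b ∈ wrSub h R₀ T → (b * (e : Γ) * b⁻¹ * (e : Γ)⁻¹) ^ 2 = 1 := by
    intro b hb
    have h1 : (⟨b, hb⟩ : wrSub h R₀ T) * e * (⟨b, hb⟩ : wrSub h R₀ T)⁻¹ ∈ E :=
      hn.conj_mem e he _
    have h2 := mul_mem h1 (inv_mem he)
    have h3 := hE _ h2
    have h4 := congrArg (fun z : wrSub h R₀ T => (z : Γ)) h3
    simpa using h4
  obtain ⟨x, hx, σ, hσ, hex⟩ := e.2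
  have hDinj := h.D_injective
  -- a base element of exponent two has coordinates of exponent two
  have hsq : ∀ z : Fin n → R, (D z) ^ 2 = 1 → ∀ i, (z i) ^ 2 = 1 := by
    intro z hz i
    have h1 : D (z ^ 2) = D 1 := by rw [map_pow, hz, map_one]
    have h2 := congrFun (hDinj h1) i
    simpa using h2
  -- step 1 : the permutation part is trivial
  have hσ1 : σ = 1 := by
    by_contra hne
    obtain ⟨i, hi⟩ : ∃ i, σ i ≠ i := by
      by_contra hc
      push Not at hc
      exact hne (Equiv.ext hc)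
    have hi' : σ⁻¹ i ≠ i := by
      intro hc
      apply hi
      have := congrArg σ hc
      simpa using this.symm
    obtain ⟨a, ha, ha2⟩ := hR.wit
    set y : Fin n → R := Pi.mulSingle i a with hy
    have hb : D y ∈ wrSub h R₀ T := D_mem_wrSub h (mulSingle_mem i ha)
    have h1 := hcomm (D y) hb
    have h2 : D y * (e : Γ) * (D y)⁻¹ * (e : Γ)⁻¹ =
        D (y * x * (fun k => (y (σ⁻¹ k))⁻¹) * x⁻¹) := by
      rw [hex, mul_inv_rev, map_mul, map_mul, map_mul, map_inv]
      have h3 := h.conj' σ y⁻¹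
      have h3' : (D x * Pm σ) * (D y)⁻¹ * ((Pm σ)⁻¹ * (D x)⁻¹) =
          D x * D (fun k => (y (σ⁻¹ k))⁻¹) * (D x)⁻¹ := by
        have h4 : Pm σ * (D y)⁻¹ * (Pm σ)⁻¹ = D (fun k => (y (σ⁻¹ k))⁻¹) := by
          rw [← map_inv]
          simpa using h3
        rw [← h4]
        group
      calc D y * (D x * Pm σ) * (D y)⁻¹ * ((Pm σ)⁻¹ * (D x)⁻¹)
          = D y * ((D x * Pm σ) * (D y)⁻¹ * ((Pm σ)⁻¹ * (D x)⁻¹)) := by group
        _ = _ := by rw [h3']; group
    rw [h2] at h1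
    have h5 := hsq _ h1 i
    have hyi : y (σ⁻¹ i) = 1 := by
      rw [hy, Pi.mulSingle_eq_of_ne hi']
    have hyi' : y i = a := by rw [hy]; simp
    have h6 : (y * x * (fun k => (y (σ⁻¹ k))⁻¹) * x⁻¹) i = a := by
      simp only [Pi.mul_apply, Pi.inv_apply]
      rw [hyi, hyi']
      group
    rw [h6] at h5
    exact ha2 h5
  subst hσ1
  have hex' : (e : Γ) = D x := by rw [hex]; simp
  refine ⟨x, fun i => ?_, hex'⟩
  have hx2 : ∀ i, (x i) ^ 2 = 1 := by
    apply hsq
    rw [← hex']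
    have h3 := hE e he
    have h4 := congrArg (fun z : wrSub h R₀ T => (z : Γ)) h3
    simpa using h4
  rcases hR.inv (x i) (hx i) (hx2 i) with h1 | ⟨b, hb, hb2⟩
  · exact h1
  · exfalso
    set y : Fin n → R := Pi.mulSingle i b with hy
    have hbm : D y ∈ wrSub h R₀ T := D_mem_wrSub h (mulSingle_mem i hb)
    have h2 := hcomm (D y) hbm
    rw [hex', ← map_inv, ← map_inv, ← map_mul, ← map_mul, ← map_mul] at h2
    have h5 := hsq _ h2 i
    apply hb2
    simpa [hy] using h5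

/-- The normal rank of a wreath product. -/
theorem normalRank_wr [Finite Γ] {R₀ Ω : Subgroup R} (hR : RankData R₀ Ω) (hc : Nat.card Ω = 2)
    (h : WrData D Pm) (T : Subgroup (Perm (Fin n))) :
    NormalRankIs (wrSub h R₀ T) n := by
  classical
  have hfin : Finite Ω := Nat.finite_of_card_ne_zero (by omega)
  have hDinj := h.D_injective
  have hcard : Nat.card (Fin n → Ω) = 2 ^ n := by
    rw [Nat.card_fun, hc]
    simp
  refine ⟨?_, ?_⟩
  · -- the lower bound
    let base : Subgroup Γ := (Subgroup.pi Set.univ fun _ : Fin n => Ω).map D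
    have hmem : ∀ x : Fin n → R, (∀ i, x i ∈ Ω) → D x ∈ base := fun x hx =>
      ⟨x, fun i _ => hx i, rfl⟩
    refine ⟨base.subgroupOf (wrSub h R₀ T), ?_, ⟨⟨⟨?_⟩⟩, ?_⟩, ?_⟩
    · refine ⟨fun e he g => ?_⟩
      rw [Subgroup.mem_subgroupOf] at he ⊢
      obtain ⟨x, hx, hxe⟩ := he
      obtain ⟨y, hy, τ, hτ, hg⟩ := g.2
      have h1 : ((g * e * g⁻¹ : wrSub h R₀ T) : Γ) = D fun i => x (τ⁻¹ i) := by
        have h2 : (g : Γ) * (e : Γ) * (g : Γ)⁻¹ =
            D y * (Pm τ * D x * (Pm τ)⁻¹) * (D y)⁻¹ := by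
          rw [hg, ← hxe]
          group
        have h3 : ((g * e * g⁻¹ : wrSub h R₀ T) : Γ) = (g : Γ) * (e : Γ) * (g : Γ)⁻¹ := by simp
        rw [h3, h2, h.conj', ← map_inv, ← map_mul, ← map_mul]
        congr 1
        funext i
        have h4 := hR.central (x (τ⁻¹ i)) (hx _ trivial) (y i) (hy i)
        simp only [Pi.mul_apply, Pi.inv_apply]
        rw [h4, mul_inv_cancel_right]
      rw [h1]
      exact hmem _ fun i => hx _ trivial
    · rintro ⟨a, ha⟩ ⟨b, hb⟩
      apply Subtype.ext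
      apply Subtype.ext
      rw [Subgroup.mem_subgroupOf] at ha hb
      obtain ⟨x, hx, hxa⟩ := ha
      obtain ⟨y, hy, hyb⟩ := hb
      show (a : Γ) * (b : Γ) = (b : Γ) * (a : Γ)
      rw [← hxa, ← hyb, ← map_mul, ← map_mul]
      congr 1
      funext i
      exact (hR.central _ (hx i trivial) _ (hR.le (hy i trivial))).symm
    · intro a ha
      rw [Subgroup.mem_subgroupOf] at ha
      obtain ⟨x, hx, hxa⟩ := ha
      apply Subtype.ext
      have h1 : (a : Γ) ^ 2 = 1 := by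
        rw [← hxa, ← map_pow]
        have : x ^ 2 = 1 := funext fun i => by simpa using hR.sq _ (hx i trivial)
        rw [this, map_one]
      simpa using h1
    · rw [← hcard]
      let f : (Fin n → Ω) → (base.subgroupOf (wrSub h R₀ T)) := fun x =>
        ⟨⟨D fun i => (x i : R), D_mem_wrSub h fun i => hR.le (x i).2⟩, by
          rw [Subgroup.mem_subgroupOf]
          exact hmem _ fun i => (x i).2⟩
      refine Nat.card_le_card_of_injective f ?_
      intro x y hxy
      have h1 : D (fun i => (x i : R)) = D fun i => (y i : R) :=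
        congrArg (fun z : (base.subgroupOf (wrSub h R₀ T)) => ((z : wrSub h R₀ T) : Γ)) hxy
      have h2 := hDinj h1
      exact funext fun i => Subtype.ext (congrFun h2 i)
  · -- the upper bound
    intro E hn hE
    have hE2 : ∀ e ∈ E, e ^ 2 = 1 := hE.2
    rw [← hcard]
    choose! x hx hxe using fun e (he : e ∈ E) => mem_base_of_normal hR h T E hn hE2 e he
    let f : E → (Fin n → Ω) := fun e i => ⟨x e.1 i, hx e.1 e.2 i⟩
    refine Nat.card_le_card_of_injective f ?_
    intro a b hab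
    have h1 : x a.1 = x b.1 := funext fun i =>
      congrArg (fun z : Fin n → Ω => (z i : R)) hab
    apply Subtype.ext
    apply Subtype.ext
    rw [hxe a.1 a.2, hxe b.1 b.2, h1]

end Abstract

end Cfsg.Agent.Lib.AltChar
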