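import Mathlib
import Cfsg.Agent.Lib.AltChar.NormalRank
import Cfsg.Agent.Lib.AltChar.GL2Data
import Cfsg.Agent.S2250

/-!
# Normal `2`-rank: transfer lemmas and the base groups for `GL_n(q)`.
-/

set_option autoImplicit false
set_option linter.unusedSectionVars false

open Equiv Matrix
open scoped MatrixGroups

namespace Cfsg.Agent.Lib.AltChar

section Generic

/-- Central involutions which are the only involutions. -/
theorem rankData_of_unique {R : Type*} [Group R] [Finite R] (z : R) (hz : z ≠ 1) (hz2 : z ^ 2 = 1)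
    (hc : ∀ a, a * z = z * a) (hu : ∀ c : R, c ^ 2 = 1 → c = 1 ∨ c = z) (S₀ : Sylow 2 R)
    (h4 : 4 ∣ Nat.card R) :
    RankData (S₀ : Subgroup R) (Subgroup.zpowers z) ∧ Nat.card (Subgroup.zpowers z) = 2 := by
  classical
  haveI hp2 : Fact (Nat.Prime 2) := ⟨Nat.prime_two⟩
  have hS4 : 4 ∣ Nat.card S₀ := by
    have := Sylow.pow_dvd_card_of_pow_dvd_card S₀ (n := 2) (by simpa using h4)
    simpa using this
  have hzS : z ∈ (S₀ : Subgroup R) := by
    obtain ⟨c, hc'⟩ : ∃ c : S₀, orderOf c = 2 := exists_prime_orderOf_dvd_card' 2 (by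
      exact Dvd.dvd.trans (by norm_num) hS4)
    have h1 : (c : R) ^ 2 = 1 := by
      have := pow_orderOf_eq_one c
      rw [hc'] at this
      simpa using congrArg (fun w : S₀ => (w : R)) this
    have h3 : (c : R) ≠ 1 := by
      intro h
      have : c = 1 := Subtype.ext h
      rw [this, orderOf_one] at hc'
      omega
    rcases hu _ h1 with h4' | h4'
    · exact absurd h4' h3
    · rw [← h4']
      exact c.2
  have hmem : ∀ c : R, c ^ 2 = 1 → c ∈ Subgroup.zpowers z := by
    intro c hc2
    rcases hu c hc2 with h4' | h4'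
    · rw [h4']
      exact one_mem _
    · rw [h4']
      exact Subgroup.mem_zpowers _
  have hord : orderOf z = 2 := orderOf_eq_prime hz2 hz
  have hΩ : Nat.card (Subgroup.zpowers z) = 2 := by
    rw [Nat.card_zpowers, hord]
  refine ⟨⟨?_, ?_, ?_, ?_, ?_⟩, hΩ⟩
  · rw [Subgroup.zpowers_le]
    exact hzS
  · rintro _ ⟨k, rfl⟩ a _
    have h1 : Commute a z := hc a
    exact (h1.zpow_right k).eq
  · rintro _ ⟨k, rfl⟩
    have h1 : (z ^ k) ^ 2 = (z ^ 2) ^ k := by
      rw [← zpow_natCast, ← zpow_natCast, ← _root_.zpow_mul, ← _root_.zpow_mul, mul_comm]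
    show (z ^ k) ^ 2 = 1
    rw [h1, hz2, _root_.one_zpow]
  · by_contra hc'
    push Not at hc'
    have hle : (S₀ : Subgroup R) ≤ Subgroup.zpowers z := fun a ha => hmem a (hc' a ha)
    have h5 := Subgroup.card_dvd_of_le hle
    rw [hΩ] at h5
    have := Nat.dvd_trans hS4 h5
    omega
  · intro c _ hc2
    exact Or.inl (hmem c hc2)

theorem card_le_of_forall_mem {G : Type*} [Group G] [DecidableEq G] (K : Subgroup G) (s : Finset G)
    (h : ∀ x ∈ K, x ∈ s) : Nat.card K ≤ s.card := by
  have h1 : Nat.card s = s.card := by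
    rw [Nat.card_eq_fintype_card, Fintype.card_coe]
  rw [← h1]
  refine Nat.card_le_card_of_injective (fun x : K => (⟨x.1, h x.1 x.2⟩ : s)) ?_
  intro a b hab
  exact Subtype.ext (congrArg (fun w : s => (w : G)) hab)

theorem NormalRankIs.map_inj {G G' : Type*} [Group G] [Group G'] (φ : G →* G')
    (hφ : Function.Injective φ) (M : Subgroup G) {k : ℕ} (h : NormalRankIs M k) :
    NormalRankIs (M.map φ) k :=
  h.congr (Subgroup.equivMapOfInjective M φ hφ)

theorem NormalRankIs.sylow {G : Type*} [Group G] [Finite G] (M : Subgroup G)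
    (hM : Nat.card M = 2 ^ (Nat.card G).factorization 2) {k : ℕ} (h : NormalRankIs M k)
    [Fact (Nat.Prime 2)] (S : Sylow 2 G) : NormalRankIs S k :=
  h.congr (Sylow.equiv (Sylow.ofCard M hM) S)

/-- Adding a direct factor of order `2`. -/
theorem NormalRankIs.prod_two {A C : Type*} [Group A] [Group C] [Finite A] (hC : Nat.card C = 2)
    {k : ℕ} (h : NormalRankIs A k) : NormalRankIs (A × C) (k + 1) := by
  classical
  haveI hfin : Finite C := Nat.finite_of_card_ne_zero (by omega)
  haveI : Fact (Nat.Prime 2) := ⟨Nat.prime_two⟩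
  -- `C` has exponent two and is abelian
  have hC2 : ∀ c : C, c ^ 2 = 1 := fun c => by
    have := pow_card_eq_one' (x := c)
    rwa [hC] at this
  have hCc : ∀ a b : C, a * b = b * a := by
    have hcyc : IsCyclic C := isCyclic_of_prime_card hC
    intro a b
    obtain ⟨g, hg⟩ := hcyc.exists_generator
    obtain ⟨i, rfl⟩ := hg a
    obtain ⟨j, rfl⟩ := hg b
    exact ((Commute.refl g).zpow_zpow i j).eq
  obtain ⟨⟨E, hn, he, hc⟩, hle⟩ := h
  refine ⟨⟨E.prod ⊤, ?_, ⟨⟨⟨?_⟩⟩, ?_⟩, ?_⟩, ?_⟩
  · refine ⟨fun x hx g => ?_⟩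
    rw [Subgroup.mem_prod] at hx ⊢
    exact ⟨hn.conj_mem _ hx.1 _, trivial⟩
  · rintro ⟨⟨a, c⟩, ha⟩ ⟨⟨b, d⟩, hb⟩
    rw [Subgroup.mem_prod] at ha hb
    apply Subtype.ext
    apply Prod.ext
    · have h1 : (⟨a, ha.1⟩ : E) * ⟨b, hb.1⟩ = ⟨b, hb.1⟩ * ⟨a, ha.1⟩ := by
        haveI := he.1
        exact mul_comm' _ _
      exact congrArg (fun z : E => (z : A)) h1
    · exact hCc c d
  · rintro ⟨a, c⟩ ha
    rw [Subgroup.mem_prod] at ha
    exact Prod.ext (he.2 a ha.1) (hC2 c)
  · have h1 : Nat.card (E.prod (⊤ : Subgroup C)) = Nat.card E * 2 := by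
      rw [Nat.card_congr (Subgroup.prodEquiv E ⊤).toEquiv, Nat.card_prod, Subgroup.card_top, hC]
    rw [h1, pow_succ]
    exact Nat.mul_le_mul_right _ hc
  · intro E' hn' he'
    -- projection to `A`
    let E₁ : Subgroup A := E'.map (MonoidHom.fst A C)
    have h1 : Nat.card E₁ ≤ 2 ^ k := by
      refine hle E₁ (hn'.map _ Prod.fst_surjective) ?_
      refine ⟨⟨⟨?_⟩⟩, ?_⟩
      · rintro ⟨_, x, hx, rfl⟩ ⟨_, y, hy, rfl⟩
        have h2 : (⟨x, hx⟩ : E') * ⟨y, hy⟩ = ⟨y, hy⟩ * ⟨x, hx⟩ := by
          haveI := he'.1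
          exact mul_comm' _ _
        have h3 : x * y = y * x := congrArg (fun z : E' => (z : A × C)) h2
        apply Subtype.ext
        exact congrArg Prod.fst h3
      · rintro _ ⟨x, hx, rfl⟩
        exact congrArg Prod.fst (he'.2 x hx)
    have h2 : Nat.card E' ≤ Nat.card E₁ * Nat.card C := by
      rw [← Nat.card_prod]
      refine Nat.card_le_card_of_injective
        (fun x : E' => ((⟨x.1.1, x.1, x.2, rfl⟩ : E₁), x.1.2)) ?_
      intro x y hxy
      apply Subtype.ext
      apply Prod.ext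
      · exact congrArg (fun z : E₁ × C => (z.1 : A)) hxy
      · exact congrArg (fun z : E₁ × C => z.2) hxy
    rw [hC] at h2
    rw [pow_succ]
    exact h2.trans (Nat.mul_le_mul_right _ h1)

end Generic

section GLReindex

variable {F : Type*} [Field F] {ι κ : Type*} [Fintype ι] [Fintype κ] [DecidableEq ι] [DecidableEq κ]

/-- Reindexing general linear groups. -/
def glReindex (e : ι ≃ κ) : GL ι F ≃* GL κ F :=
  Units.mapEquiv (Matrix.reindexAlgEquiv F F e).toMulEquiv

end GLReindex

section Base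

variable {F : Type*} [Field F] [Fintype F]

theorem gl2_invol (h2 : (2 : F) ≠ 0) (x : GL (Fin 2) F) (hx : x ^ 2 = 1)
    (hd : GeneralLinearGroup.det x = 1) : x = 1 ∨ x = -1 := by
  have hd' : (x : Matrix (Fin 2) (Fin 2) F).det = 1 := by
    have := congrArg Units.val hd
    simpa using this
  let y : SL(2, F) := ⟨x.1, hd'⟩
  have hy : y ^ 2 = 1 := by
    rw [pow_two]
    apply Subtype.ext
    show (x : Matrix (Fin 2) (Fin 2) F) * x = 1
    have := congrArg Units.val hx
    simpa [pow_two] using this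
  rcases Cfsg.Agent.S2250.sl2_invol h2 y hy with h | h
  · left
    apply Units.ext
    have := congrArg Subtype.val h
    simpa [y] using this
  · right
    apply Units.ext
    have := congrArg Subtype.val h
    simpa [y, Cfsg.Agent.S2250.zSL_val] using this

/-- `a² = -1` cannot commute with a reflection if `-1` is not a square. -/
theorem no_comm_refl (hq4 : 4 ∣ Fintype.card F + 1) (h2 : (2 : F) ≠ 0) (a c : GL (Fin 2) F)
    (ha : a ^ 2 = -1) (hc : c ^ 2 = 1) (hac : a * c = c * a)
    (hda : GeneralLinearGroup.det a = 1) (hdc : GeneralLinearGroup.det c = -1) : False := by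
  classical
  have hns : ¬ IsSquare (-1 : F) := by
    rw [FiniteField.isSquare_neg_one_iff]
    obtain ⟨k, hk⟩ := hq4
    simp only [not_not]
    omega
  set e := a * c with he
  have he2 : e ^ 2 = -1 := by
    rw [he, (show Commute a c from hac).mul_pow, ha, hc, mul_one]
  have hde : (e : Matrix (Fin 2) (Fin 2) F).det = -1 := by
    have h1 : GeneralLinearGroup.det e = -1 := by
      rw [he, map_mul, hda, hdc, one_mul]
    have := congrArg Units.val h1
    simpa using this
  rw [Matrix.det_fin_two] at hde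
  have hm : (e : Matrix (Fin 2) (Fin 2) F) * e = -1 := by
    have := congrArg Units.val he2
    simpa [pow_two] using this
  have e00 := congrFun (congrFun hm 0) 0
  have e01 := congrFun (congrFun hm 0) 1
  have e10 := congrFun (congrFun hm 1) 0
  simp [Matrix.mul_apply, Fin.sum_univ_two] at e00 e01 e10
  set u := (e : Matrix (Fin 2) (Fin 2) F) 0 0
  set v := (e : Matrix (Fin 2) (Fin 2) F) 0 1
  set w := (e : Matrix (Fin 2) (Fin 2) F) 1 0
  set z := (e : Matrix (Fin 2) (Fin 2) F) 1 1
  have htr : u + z ≠ 0 := by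
    intro h
    have hz : z = -u := by linear_combination h
    rw [hz] at hde
    apply h2
    linear_combination hde + e00
  have hv : v = 0 := by
    have : v * (u + z) = 0 := by linear_combination e01
    exact (mul_eq_zero.mp this).resolve_right htr
  rw [hv] at e00
  apply hns
  exact ⟨u, by simpa using e00.symm⟩

/-- Sylow `2`-subgroups of `GL₂(q)`, `q ≡ 3 mod 4`. -/
theorem rankData_gl2 (hq4 : 4 ∣ Fintype.card F + 1) {H K : Subgroup (GL (Fin 2) F)}
    (hD : GL2Data H K) (hH : Nat.card H = 2 ^ padicValNat 2 (Nat.card (GL (Fin 2) F))) :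
    RankData H (Subgroup.zpowers (-1 : GL (Fin 2) F)) ∧
      Nat.card (Subgroup.zpowers (-1 : GL (Fin 2) F)) = 2 := by
  classical
  haveI : Fact (Nat.Prime 2) := ⟨Nat.prime_two⟩
  have hq : 2 ≤ Fintype.card F := Fintype.one_lt_card
  have hodd : Odd (Fintype.card F) := odd_of_three hq hq4
  have h2 : (2 : F) ≠ 0 := Cfsg.Agent.Lib.KS2.SL2.two_ne_zero_of_odd hodd
  set z : GL (Fin 2) F := -1 with hz
  have hz2 : z ^ 2 = 1 := by simp [hz]
  have hzne : z ≠ 1 := by
    intro h
    have h0 : ((z : GL (Fin 2) F) : Matrix (Fin 2) (Fin 2) F) = 1 := by rw [h]; rfl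
    have h1 : ((z : GL (Fin 2) F) : Matrix (Fin 2) (Fin 2) F) 0 0 = (1 : Matrix (Fin 2) (Fin 2) F) 0 0 := by
      rw [h0]
    simp [hz] at h1
    apply h2
    linear_combination -h1
  have hord : orderOf z = 2 := orderOf_eq_prime hz2 hzne
  have hΩ : Nat.card (Subgroup.zpowers z) = 2 := by
    rw [Nat.card_zpowers, hord]
  have hdz : GeneralLinearGroup.det z = 1 := by
    apply Units.ext
    simp [hz, Matrix.det_fin_two]
  have hcent : ∀ a : GL (Fin 2) F, a * z = z * a := fun a => by simp [hz]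
  -- the order of `K`
  obtain ⟨b, hbH, hbd⟩ := hD.exists_b
  have hne1 : (-1 : Fˣ) ≠ 1 := by
    intro h
    have h1 := congrArg Units.val h
    simp only [Units.val_neg, Units.val_one] at h1
    apply h2
    linear_combination -h1
  have hbK : b ∉ K := fun h => hne1 (hbd.symm.trans ((hD.mem_K b).mp h).2)
  have hdec : ∀ x ∈ H, x ∈ K ∨ x * b⁻¹ ∈ K := by
    intro x hx
    rcases hD.det_H x hx with h | h
    · exact Or.inl ((hD.mem_K x).mpr ⟨hx, h⟩)
    · refine Or.inr ((hD.mem_K _).mpr ⟨mul_mem hx (inv_mem hbH), ?_⟩)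
      rw [map_mul, map_inv, h, hbd]
      simp
  have hcardK := card_eq_two_mul_of_coset hD.le hbH hbK hdec
  have hv : 4 ≤ padicValNat 2 (Nat.card (GL (Fin 2) F)) := by
    rw [val_card_GL hodd 2]
    have h3 := fVal_two_mul hq hq4 1
    simp only [mul_one, Nat.factorial_one, padicValNat_one_right, add_zero, one_mul] at h3
    have h4 : fVal (Fintype.card F) 2 = 1 + padicValNat 2 (Fintype.card F ^ 2 - 1) := h3
    rw [h4]
    have h5 : 8 ∣ Fintype.card F ^ 2 - 1 := by
      obtain ⟨c, hc⟩ := hodd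
      rw [hc]
      have h6 : (2 * c + 1) ^ 2 - 1 = 4 * (c * (c + 1)) := by
        have : (2 * c + 1) ^ 2 = 4 * (c * (c + 1)) + 1 := by ring
        omega
      rw [h6]
      have h7 : 2 ∣ c * (c + 1) := (Nat.even_mul_succ_self c).two_dvd
      obtain ⟨d, hd⟩ := h7
      exact ⟨d, by rw [hd]; ring⟩
    have hne : Fintype.card F ^ 2 - 1 ≠ 0 := by
      have : 1 < Fintype.card F ^ 2 := Nat.one_lt_pow (by omega) (by omega)
      omega
    have h8 : (2 : ℕ) ^ 3 ∣ Fintype.card F ^ 2 - 1 := by simpa using h5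
    have h9 := (padicValNat_dvd_iff_le (p := 2) hne).mp h8
    omega
  have hK8 : 8 ≤ Nat.card K := by
    have h3 : (2 : ℕ) ^ 4 ≤ Nat.card H := by
      rw [hH]
      exact Nat.pow_le_pow_right (by norm_num) hv
    omega
  -- all elements of `H` have `2`-power order
  have hpow : ∀ a ∈ H, ∃ k : ℕ, a ^ 2 ^ k = 1 := by
    intro a ha
    refine ⟨padicValNat 2 (Nat.card (GL (Fin 2) F)), ?_⟩
    have := pow_card_eq_one' (x := (⟨a, ha⟩ : H))
    rw [hH] at this
    simpa using congrArg (fun w : H => (w : GL (Fin 2) F)) this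
  have hdetK : ∀ a ∈ K, GeneralLinearGroup.det a = 1 := fun a ha => ((hD.mem_K a).mp ha).2
  have hinv : ∀ a ∈ K, a ^ 2 = 1 → a = 1 ∨ a = z := fun a ha h1 => gl2_invol h2 a h1 (hdetK a ha)
  -- a power with square `-1`
  have hroot : ∀ (k : ℕ) (a : GL (Fin 2) F), a ∈ K → a ^ 2 ^ k = 1 →
      a ^ 2 = 1 ∨ ∃ j : ℕ, (a ^ 2 ^ j) ^ 2 = z := by
    intro k
    induction k with
    | zero =>
      intro a _ h
      left
      have : a = 1 := by simpa using h
      simp [this]
    | succ k ih =>
      intro a ha h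
      have h1 : (a ^ 2) ^ 2 ^ k = 1 := by
        rw [← pow_mul, ← pow_succ']
        exact h
      rcases ih (a ^ 2) (pow_mem ha 2) h1 with h3 | ⟨j, hj⟩
      · rcases hinv _ (pow_mem ha 2) h3 with h4 | h4
        · exact Or.inl h4
        · refine Or.inr ⟨0, ?_⟩
          simpa using h4
      · refine Or.inr ⟨j + 1, ?_⟩
        have e : a ^ 2 ^ (j + 1) = (a ^ 2) ^ 2 ^ j := by
          rw [← pow_mul, ← pow_succ']
        rw [e]
        exact hj
  have hzK : z ∈ K := by
    have h3 : 2 ∣ Nat.card K := by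
      have h4 : (2 : ℕ) ^ 2 ∣ Nat.card H := by
        rw [hH]
        exact pow_dvd_pow 2 (by omega)
      rw [hcardK] at h4
      have h5 : 2 * 2 ∣ 2 * Nat.card K := by simpa [pow_two] using h4
      exact Nat.dvd_of_mul_dvd_mul_left (by norm_num) h5
    obtain ⟨c, hc⟩ : ∃ c : K, orderOf c = 2 := exists_prime_orderOf_dvd_card' 2 h3
    have h1 : (c : GL (Fin 2) F) ^ 2 = 1 := by
      have := pow_orderOf_eq_one c
      rw [hc] at this
      simpa using congrArg (fun w : K => (w : GL (Fin 2) F)) this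
    have h3 : (c : GL (Fin 2) F) ≠ 1 := by
      intro h
      have : c = 1 := Subtype.ext h
      rw [this, orderOf_one] at hc
      omega
    rcases hinv _ c.2 h1 with h4 | h4
    · exact absurd h4 h3
    · rw [← h4]
      exact c.2
  have hzH : z ∈ H := hD.le hzK
  have hmemΩ : ∀ c, (c = 1 ∨ c = z) → c ∈ Subgroup.zpowers z := by
    rintro c (rfl | rfl)
    · exact one_mem _
    · exact Subgroup.mem_zpowers _
  -- elements outside small sets
  have houtside : ∀ s : Finset (GL (Fin 2) F), s.card ≤ 4 → ∃ a ∈ K, a ∉ s := by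
    intro s hs
    by_contra hc
    push Not at hc
    have := card_le_of_forall_mem K s hc
    omega
  refine ⟨⟨?_, ?_, ?_, ?_, ?_⟩, hΩ⟩
  · rw [Subgroup.zpowers_le]
    exact hzH
  · rintro _ ⟨k, rfl⟩ a _
    have h1 : Commute a z := hcent a
    exact (h1.zpow_right k).eq
  · rintro _ ⟨k, rfl⟩
    have h1 : (z ^ k) ^ 2 = (z ^ 2) ^ k := by
      rw [← zpow_natCast, ← zpow_natCast, ← _root_.zpow_mul, ← _root_.zpow_mul, mul_comm]
    show (z ^ k) ^ 2 = 1
    rw [h1, hz2, _root_.one_zpow]
  · obtain ⟨a, ha, has⟩ := houtside {1, z} (Finset.card_le_two.trans (by norm_num))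
    refine ⟨a, hD.le ha, fun h1 => has ?_⟩
    rcases hinv a ha h1 with rfl | rfl <;> simp
  · intro c hcH hc2
    rcases hD.det_H c hcH with hd | hd
    · exact Or.inl (hmemΩ c (gl2_invol h2 c hc2 hd))
    · right
      by_contra hcon
      push Not at hcon
      -- every element of `K` commutes with `c` up to sign
      have hsign : ∀ a ∈ K, a * c * a⁻¹ * c⁻¹ = 1 ∨ a * c * a⁻¹ * c⁻¹ = z := by
        intro a ha
        refine gl2_invol h2 _ (hcon a (hD.le ha)) ?_
        rw [map_mul, map_mul, map_mul, map_inv, map_inv, hdetK a ha]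
        simp
      have hcomm1 : ∀ a ∈ K, a * c = c * a ∨ a * c = z * (c * a) := by
        intro a ha
        rcases hsign a ha with h | h
        · left
          have h3 : a * c * a⁻¹ * c⁻¹ * (c * a) = c * a := by rw [h, one_mul]
          simpa [mul_assoc] using h3
        · right
          have h3 : a * c * a⁻¹ * c⁻¹ * (c * a) = z * (c * a) := by rw [h]
          simpa [mul_assoc] using h3
      -- elements commuting with `c` are `±1`
      have hcomm2 : ∀ a ∈ K, a * c = c * a → a = 1 ∨ a = z := by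
        intro a ha hac
        obtain ⟨k, hk⟩ := hpow a (hD.le ha)
        rcases hroot k a ha hk with h | ⟨j, hj⟩
        · exact hinv a ha h
        · exfalso
          have hpowK : a ^ 2 ^ j ∈ K := pow_mem ha _
          have hc' : Commute (a ^ 2 ^ j) c := (show Commute a c from hac).pow_left _
          exact no_comm_refl hq4 h2 _ c hj hc2 hc'.eq (hdetK _ hpowK) hd
      obtain ⟨a₁, ha₁, has₁⟩ := houtside {1, z} (Finset.card_le_two.trans (by norm_num))
      obtain ⟨a₂, ha₂, has₂⟩ := houtside {1, z, a₁⁻¹, z * a₁⁻¹} Finset.card_le_four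
      simp only [Finset.mem_insert, Finset.mem_singleton, not_or] at has₁ has₂
      have hanti : ∀ a ∈ K, a ≠ 1 → a ≠ z → a * c = z * (c * a) := by
        intro a ha h1 h3
        rcases hcomm1 a ha with h | h
        · rcases hcomm2 a ha h with h4 | h4
          · exact absurd h4 h1
          · exact absurd h4 h3
        · exact h
      have h1 := hanti a₁ ha₁ has₁.1 has₁.2
      have h3 := hanti a₂ ha₂ has₂.1 has₂.2.1
      have h4 : (a₁ * a₂) * c = c * (a₁ * a₂) := by
        calc (a₁ * a₂) * c = a₁ * (a₂ * c) := by group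
          _ = a₁ * (z * (c * a₂)) := by rw [h3]
          _ = z * ((a₁ * c) * a₂) := by
            rw [← mul_assoc a₁ z, hcent a₁]
            group
          _ = z * ((z * (c * a₁)) * a₂) := by rw [h1]
          _ = z ^ 2 * (c * (a₁ * a₂)) := by
            rw [pow_two]
            simp only [mul_assoc]
          _ = c * (a₁ * a₂) := by rw [hz2, one_mul]
      rcases hcomm2 _ (mul_mem ha₁ ha₂) h4 with h5 | h5
      · apply has₂.2.2.1
        exact eq_inv_of_mul_eq_one_right h5
      · apply has₂.2.2.2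
        have h6 : a₂ = a₁⁻¹ * z := by
          rw [← h5]
          group
        rw [h6, hcent]

end Base

end Cfsg.Agent.Lib.AltChar
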