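import Mathlib
import Cfsg.Agent.Lib.AltChar.WrSub

/-!
# Squares modulo the commutator subgroup inside an index four normal subgroup of a wreath product.
-/

set_option autoImplicit false
set_option linter.unusedSectionVars false

open Equiv
open scoped commutatorElement

namespace Cfsg.Agent.Lib.AltChar

section OmegaAbs

variable {G R : Type*} [Group G] [Group R] {n : ℕ}

/-- The pair element: `a` at `i`, `a⁻¹` at `k`. -/
def prEl [DecidableEq (Fin n)] (i k : Fin n) (a : R) : Fin n → R :=
  Pi.mulSingle i a * Pi.mulSingle k a⁻¹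

theorem prEl_left (i k : Fin n) (hik : i ≠ k) (a : R) : prEl i k a i = a := by
  simp [prEl, Pi.mulSingle_eq_of_ne hik]

theorem prEl_right (i k : Fin n) (hik : i ≠ k) (a : R) : prEl i k a k = a⁻¹ := by
  simp [prEl, Pi.mulSingle_eq_of_ne hik.symm]

theorem prEl_other (i k j : Fin n) (hi : j ≠ i) (hk : j ≠ k) (a : R) : prEl i k a j = 1 := by
  simp [prEl, Pi.mulSingle_eq_of_ne hi, Pi.mulSingle_eq_of_ne hk]

/-- The key computation for wreath products with dihedral base. -/
theorem omega_exp (hn : 2 ≤ n) (D : (Fin n → R) →* G) (Pm : Perm (Fin n) →* G)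
    (hconj : ∀ (σ : Perm (Fin n)) (x : Fin n → R), Pm σ * D x = D (fun i => x (σ⁻¹ i)) * Pm σ)
    (R₀ : Subgroup R) (T : Subgroup (Perm (Fin n))) (K : Subgroup G)
    (g₀ : R) (hg₀ : g₀ ∈ R₀) (hg₀2 : g₀ * g₀ = 1)
    (hR : ∀ a ∈ R₀, a * a = 1 ∨ g₀ * a * g₀⁻¹ = a⁻¹)
    (hT : ∀ σ ∈ T, σ ^ 2 ∈ ⁅T, T⁆)
    (hK2 : ∀ κ ∈ K, κ * κ = 1)
    (hKD : ∀ κ ∈ K, ∀ x, κ * D x = D x * κ)
    (hKP : ∀ κ ∈ K, ∀ σ, κ * Pm σ = Pm σ * κ)
    (hPmS : ∀ σ, Pm σ ∈ commutator G)
    (P₁ : Subgroup G)
    (hP₁ : ∀ g ∈ P₁, ∃ x : Fin n → R, (∀ i, x i ∈ R₀) ∧ ∃ σ ∈ T, ∃ κ ∈ K, g = D x * Pm σ * κ)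
    (hP₁D : ∀ x : Fin n → R, (∀ i, x i ∈ R₀) → D x ∈ P₁)
    (hP₁P : ∀ σ ∈ T, Pm σ ∈ P₁) :
    ∀ g ∈ P₁ ⊓ commutator G, g ^ 2 ∈ ⁅P₁ ⊓ commutator G, P₁ ⊓ commutator G⁆ := by
  classical
  set P := P₁ ⊓ commutator G with hP
  set A := ⁅P, P⁆ with hA
  have hginv : g₀⁻¹ = g₀ := inv_eq_of_mul_eq_one_left hg₀2
  -- coordinates of pair elements
  have hprR : ∀ (i k : Fin n) (a : R), a ∈ R₀ → ∀ j, prEl i k a j ∈ R₀ := by
    intro i k a ha j
    simp only [prEl, Pi.mul_apply]
    refine mul_mem ?_ ?_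
    · by_cases h : j = i
      · subst h
        simpa using ha
      · simp [Pi.mulSingle_eq_of_ne h, one_mem]
    · by_cases h : j = k
      · subst h
        simpa using inv_mem ha
      · simp [Pi.mulSingle_eq_of_ne h, one_mem]
  -- pair elements are commutators
  have hprS : ∀ (i k : Fin n) (a : R), i ≠ k → D (prEl i k a) ∈ commutator G := by
    intro i k a hik
    have e1 : (fun j => (Pi.mulSingle i a⁻¹ : Fin n → R) ((swap i k)⁻¹ j)) = Pi.mulSingle k a⁻¹ := by
      funext j
      rw [swap_inv]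
      by_cases hj : j = k
      · subst hj
        simp
      · have : swap i k j ≠ i := by
          intro hc
          apply hj
          have := congrArg (swap i k) hc
          simpa using this
        simp [Pi.mulSingle_eq_of_ne this, Pi.mulSingle_eq_of_ne hj]
    have e2 : D (prEl i k a) = ⁅D (Pi.mulSingle i a), Pm (swap i k)⁆ := by
      rw [commutatorElement_def, prEl, map_mul]
      have h1 := hconj (swap i k) (Pi.mulSingle i a⁻¹)
      rw [e1] at h1
      have h2 : (D (Pi.mulSingle i a))⁻¹ = D (Pi.mulSingle i a⁻¹) := by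
        rw [← map_inv, Pi.mulSingle_inv]
      rw [mul_assoc, mul_assoc, h2, ← mul_assoc (Pm (swap i k)), h1]
      simp [mul_assoc]
    rw [e2]
    exact Subgroup.commutator_mem_commutator (Subgroup.mem_top _) (Subgroup.mem_top _)
  have hprP : ∀ (i k : Fin n) (a : R), a ∈ R₀ → i ≠ k → D (prEl i k a) ∈ P := by
    intro i k a ha hik
    exact Subgroup.mem_inf.mpr ⟨hP₁D _ (hprR i k a ha), hprS i k a hik⟩
  -- squares of pair elements
  have hprSq : ∀ (i k : Fin n) (a : R), a ∈ R₀ → i ≠ k → (D (prEl i k a)) ^ 2 ∈ A := by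
    intro i k a ha hik
    rcases hR a ha with h | h
    · have : prEl i k a * prEl i k a = 1 := by
        funext j
        have h' : a⁻¹ * a⁻¹ = 1 := by
          rw [← _root_.mul_inv_rev, h, inv_one]
        by_cases h1 : j = i
        · subst h1
          simp [prEl_left _ _ hik, h]
        · by_cases h2 : j = k
          · subst h2
            simp [prEl_right _ _ hik, h']
          · simp [prEl_other _ _ _ h1 h2]
      rw [pow_two, ← map_mul, this, map_one]
      exact one_mem _
    · have hinv : g₀ * a⁻¹ * g₀⁻¹ = a := by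
        have := congrArg (fun z => z⁻¹) h
        simpa [mul_assoc] using this
      have : prEl i k a * prEl i k a = ⁅prEl i k a, prEl i k g₀⁆ := by
        funext j
        rw [commutatorElement_def]
        by_cases h1 : j = i
        · subst h1
          simp only [Pi.mul_apply, Pi.inv_apply, prEl_left _ _ hik]
          rw [mul_assoc a g₀, mul_assoc a, hinv]
        · by_cases h2 : j = k
          · subst h2
            simp only [Pi.mul_apply, Pi.inv_apply, prEl_right _ _ hik, inv_inv, hginv]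
            have h3 : g₀ * a * g₀ = a⁻¹ := by rwa [hginv] at h
            rw [mul_assoc a⁻¹ g₀, mul_assoc a⁻¹, h3]
          · simp [prEl_other _ _ _ h1 h2]
      rw [pow_two, ← map_mul, this, map_commutatorElement]
      exact Subgroup.commutator_mem_commutator (hprP i k a ha hik) (hprP i k g₀ hg₀ hik)
  -- elements with the central part
  have hbsq : ∀ (u : Fin n → R), ∀ κ ∈ K, (D u * κ) ^ 2 = D (u * u) := by
    intro u κ hκ
    rw [pow_two, map_mul, mul_assoc, ← mul_assoc κ, hKD κ hκ, mul_assoc, hK2 κ hκ, mul_one]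
  have hbcomm : ∀ (u v : Fin n → R), ∀ κ ∈ K, ⁅D u * κ, D v⁆ = D ⁅u, v⁆ := by
    intro u v κ hκ
    rw [commutatorElement_def, commutatorElement_def, mul_inv_rev, map_mul, map_mul, map_mul, map_inv,
      map_inv]
    have h1 : κ * D v * (κ⁻¹ * (D u)⁻¹ * (D v)⁻¹) = D v * ((D u)⁻¹ * (D v)⁻¹) := by
      rw [hKD κ hκ, mul_assoc, ← mul_assoc κ, ← mul_assoc κ, mul_inv_cancel, one_mul]
    calc D u * κ * D v * (κ⁻¹ * (D u)⁻¹) * (D v)⁻¹
        = D u * (κ * D v * (κ⁻¹ * (D u)⁻¹ * (D v)⁻¹)) := by group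
      _ = D u * D v * (D u)⁻¹ * (D v)⁻¹ := by rw [h1]; group
  -- single coordinates
  have hsingle : ∀ (i : Fin n) (e : R), e ∈ R₀ → ∀ κ ∈ K, D (Pi.mulSingle i e) * κ ∈ P →
      (D (Pi.mulSingle i e) * κ) ^ 2 ∈ A := by
    intro i e he κ hκ hb
    rcases hR e he with h | h
    · rw [hbsq _ κ hκ]
      have : (Pi.mulSingle i e * Pi.mulSingle i e : Fin n → R) = 1 := by
        rw [← Pi.mulSingle_mul, h, Pi.mulSingle_one]
      rw [this, map_one]
      exact one_mem _
    · obtain ⟨k, hk⟩ : ∃ k : Fin n, k ≠ i := by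
        have : Nontrivial (Fin n) := Fin.nontrivial_iff_two_le.mpr hn
        exact exists_ne i
      have hik : i ≠ k := hk.symm
      have hinv : g₀ * e⁻¹ * g₀⁻¹ = e := by
        have := congrArg (fun z => z⁻¹) h
        simpa [mul_assoc] using this
      have : (Pi.mulSingle i e * Pi.mulSingle i e : Fin n → R) = ⁅(Pi.mulSingle i e : Fin n → R), prEl i k g₀⁆ := by
        funext j
        rw [commutatorElement_def]
        by_cases h1 : j = i
        · subst h1
          simp only [Pi.mul_apply, Pi.inv_apply, prEl_left _ _ hik, Pi.mulSingle_eq_same]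
          rw [mul_assoc e g₀, mul_assoc e, hinv]
        · simp [Pi.mulSingle_eq_of_ne h1]
      rw [hbsq _ κ hκ, this, ← hbcomm _ _ κ hκ]
      exact Subgroup.commutator_mem_commutator hb (hprP i k g₀ hg₀ hik)
  -- elements of the base
  have hn0 : 0 < n := by omega
  let i₀ : Fin n := ⟨0, hn0⟩
  have hbase : ∀ (s : Finset (Fin n)), i₀ ∉ s → ∀ d : Fin n → R, (∀ j, d j ∈ R₀) →
      (∀ j, j ∉ s → j ≠ i₀ → d j = 1) → ∀ κ ∈ K, D d * κ ∈ P → (D d * κ) ^ 2 ∈ A := by
    intro s
    induction s using Finset.induction_on with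
    | empty =>
      intro _ d _ hd κ hκ hb
      have e : d = Pi.mulSingle i₀ (d i₀) := by
        funext j
        by_cases hj : j = i₀
        · subst hj
          simp
        · rw [Pi.mulSingle_eq_of_ne hj]
          exact hd j (by simp) hj
      rw [e] at hb ⊢
      exact hsingle i₀ (d i₀) (by simpa using ‹∀ j, d j ∈ R₀› i₀) κ hκ hb
    | insert j s hj ih =>
      intro hi₀ d hdR hd κ hκ hb
      have hji : j ≠ i₀ := fun hc => hi₀ (by simp [hc])
      have hi₀s : i₀ ∉ s := fun hc => hi₀ (by simp [hc])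
      set a := d j with ha
      have haR : a ∈ R₀ := hdR j
      let d' : Fin n → R := Function.update (Function.update d j 1) i₀ (d i₀ * a)
      have hd'i : d' i₀ = d i₀ * a := by simp [d']
      have hd'j : d' j = 1 := by simp [d', Function.update_of_ne hji]
      have hd'o : ∀ l, l ≠ i₀ → l ≠ j → d' l = d l := by
        intro l h1 h2
        simp [d', Function.update_of_ne h1, Function.update_of_ne h2]
      have hdec : d = d' * prEl j i₀ a := by
        funext l
        by_cases h1 : l = j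
        · subst h1
          rw [Pi.mul_apply, hd'j, prEl_left _ _ hji, one_mul]
        · by_cases h2 : l = i₀
          · subst h2
            rw [Pi.mul_apply, hd'i, prEl_right _ _ hji]
            simp
          · rw [Pi.mul_apply, hd'o l h2 h1, prEl_other _ _ _ h1 h2, mul_one]
      have hd'R : ∀ l, d' l ∈ R₀ := by
        intro l
        by_cases h1 : l = j
        · subst h1
          rw [hd'j]
          exact one_mem _
        · by_cases h2 : l = i₀
          · subst h2
            rw [hd'i]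
            exact mul_mem (hdR _) haR
          · rw [hd'o l h2 h1]
            exact hdR l
      have hfac : D d * κ = D d' * κ * D (prEl j i₀ a) := by
        rw [hdec, map_mul, mul_assoc, mul_assoc, hKD κ hκ]
      have hpr := hprP j i₀ a haR hji
      have hb' : D d' * κ ∈ P := by
        have : D d' * κ = D d * κ * (D (prEl j i₀ a))⁻¹ := by
          rw [hfac, mul_inv_cancel_right]
        rw [this]
        exact mul_mem hb (inv_mem hpr)
      have h1 := ih hi₀s d' hd'R (by
        intro l hl hl'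
        by_cases h1 : l = j
        · subst h1
          exact hd'j
        · rw [hd'o l hl' h1]
          exact hd l (by simp [h1, hl]) hl') κ hκ hb'
      rw [hfac]
      exact mul_pow_mem_commutator P 2 hb' hpr h1 (hprSq j i₀ a haR hji)
  -- everything
  intro g hg
  obtain ⟨x, hx, σ, hσ, κ, hκ, rfl⟩ := hP₁ g (Subgroup.mem_inf.mp hg).1
  have hPmP : ∀ σ ∈ T, Pm σ ∈ P := fun σ hσ => Subgroup.mem_inf.mpr ⟨hP₁P σ hσ, hPmS σ⟩
  have hfac : D x * Pm σ * κ = D x * κ * Pm σ := by
    rw [mul_assoc, mul_assoc, hKP κ hκ]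
  rw [hfac] at hg ⊢
  have hb : D x * κ ∈ P := by
    have : D x * κ = D x * κ * Pm σ * (Pm σ)⁻¹ := by
      rw [mul_inv_cancel_right]
    rw [this]
    exact mul_mem hg (inv_mem (hPmP σ hσ))
  have h1 := hbase (Finset.univ.erase i₀) (by simp) x hx
    (fun j hj hj' => absurd (Finset.mem_erase.mpr ⟨hj', Finset.mem_univ j⟩) hj) κ hκ hb
  refine mul_pow_mem_commutator P 2 hb (hPmP σ hσ) h1 ?_
  rw [← map_pow]
  have h2 : Pm (σ ^ 2) ∈ (⁅T, T⁆).map Pm := Subgroup.mem_map_of_mem _ (hT σ hσ)
  rw [Subgroup.map_commutator] at h2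
  have h3 : T.map Pm ≤ P := by
    rintro _ ⟨τ, hτ, rfl⟩
    exact hPmP τ hτ
  exact Subgroup.commutator_mono h3 h3 h2

/-- Transfer to Sylow subgroups of an index four commutator subgroup. -/
theorem sylExp_of_index4 [Finite G] (P₁ S : Subgroup G) [S.Normal]
    (hcard : Nat.card P₁ = 2 ^ (Nat.card G).factorization 2)
    (hidx : S.index = 4)
    (hE : ∀ g ∈ P₁ ⊓ S, g ^ 2 ∈ ⁅P₁ ⊓ S, P₁ ⊓ S⁆)
    (P : Sylow 2 S) :
    ∀ x : (P : Subgroup S), x ^ 2 ∈ commutator (P : Subgroup S) := by
  classical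
  haveI : Fact (Nat.Prime 2) := ⟨Nat.prime_two⟩
  let M : Subgroup S := P₁.subgroupOf S
  have hmap : M.map S.subtype = P₁ ⊓ S := Subgroup.subgroupOf_map_subtype P₁ S
  have hcM : Nat.card M = Nat.card (P₁ ⊓ S : Subgroup G) := by
    rw [← hmap]
    exact Nat.card_congr (Subgroup.equivMapOfInjective M S.subtype S.subtype_injective).toEquiv
  refine sylow_exp_of_sub 2 M ?_ ?_ P
  · -- the order
    have hGS : Nat.card S * 4 = Nat.card G := by
      rw [← hidx]
      exact Subgroup.card_mul_index S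
    have hSne : Nat.card S ≠ 0 := Nat.card_pos.ne'
    have hfac : (Nat.card G).factorization 2 = (Nat.card S).factorization 2 + 2 := by
      rw [← hGS, Nat.factorization_mul hSne (by norm_num)]
      have h4 : (4 : ℕ).factorization 2 = 2 := by
        have : (4 : ℕ) = 2 ^ 2 := by norm_num
        rw [this, Nat.Prime.factorization_pow Nat.prime_two]
        simp
      simp [h4]
    set a := (Nat.card S).factorization 2 with ha
    rw [hfac] at hcard
    -- relative index
    have hr : S.relIndex P₁ ∣ 4 := by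
      rw [← hidx]
      exact Subgroup.relIndex_dvd_index_of_normal S P₁
    have hrmul : S.relIndex P₁ * Nat.card M = 2 ^ (a + 2) := by
      have h1 : (S.subgroupOf P₁).index * Nat.card (S.subgroupOf P₁) = Nat.card P₁ :=
        Subgroup.index_mul_card _
      have h2 : Nat.card (S.subgroupOf P₁) = Nat.card M := by
        rw [hcM, inf_comm, ← Subgroup.subgroupOf_map_subtype S P₁]
        exact Nat.card_congr
          (Subgroup.equivMapOfInjective (S.subgroupOf P₁) P₁.subtype P₁.subtype_injective).toEquiv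
      rw [h2] at h1
      rw [← hcard, ← h1]
      rfl
    obtain ⟨b, -, hb⟩ := (Nat.dvd_prime_pow Nat.prime_two).mp (Dvd.intro_left _ hrmul)
    have hble : b ≤ a := by
      have h1 : Nat.card M ∣ Nat.card S := Subgroup.card_subgroup_dvd_card M
      rw [hb] at h1
      exact (Nat.Prime.pow_dvd_iff_le_factorization Nat.prime_two hSne).mp h1
    have hab : a ≤ b := by
      have h1 : S.relIndex P₁ ≤ 4 := Nat.le_of_dvd (by norm_num) hr
      rw [hb] at hrmul
      have h2 : 2 ^ (a + 2) ≤ 2 ^ (b + 2) := by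
        rw [← hrmul, pow_add 2 b 2]
        calc S.relIndex P₁ * 2 ^ b ≤ 4 * 2 ^ b := Nat.mul_le_mul_right _ h1
          _ = 2 ^ b * 2 ^ 2 := by ring
      have := (Nat.pow_le_pow_iff_right (by norm_num : 1 < 2)).mp h2
      omega
    rw [hb, le_antisymm hble hab]
  · intro g hg
    have h1 := hE (g : G) (Subgroup.mem_inf.mpr ⟨hg, g.2⟩)
    rw [← hmap, ← Subgroup.map_commutator] at h1
    obtain ⟨y, hy, hye⟩ := h1
    have : y = g ^ 2 := Subtype.ext (by simpa using hye)
    exact this ▸ hy

end OmegaAbs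

end Cfsg.Agent.Lib.AltChar
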