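import Mathlib
import Cfsg.Agent.Lib.AltChar.OmegaAbs
import Cfsg.Agent.Lib.AltChar.DiagForm
import Cfsg.Agent.Lib.AltChar.GLWr

/-!
# A model for the Sylow `2`-subgroup of an orthogonal group in odd characteristic.
-/

set_option autoImplicit false
set_option linter.unusedSectionVars false

open Equiv Matrix
open scoped MatrixGroups commutatorElement

namespace Cfsg.Agent.Lib.AltChar

section SignDiag

variable {F : Type*} [Field F] {ι : Type} [Fintype ι] [DecidableEq ι]

/-- The diagonal sign matrix. -/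
def sgnMat (ε : ι → ℤˣ) : Matrix ι ι F := diagonal fun i => ((ε i : ℤ) : F)

/-- Sign matrices in the general linear group. -/
def sgnGL : (ι → ℤˣ) →* GL ι F :=
  MonoidHom.toHomUnits
    { toFun := sgnMat
      map_one' := by
        simp [sgnMat]
      map_mul' := fun ε ε' => by
        simp only [sgnMat, diagonal_mul_diagonal]
        congr 1
        funext i
        simp }

@[simp] theorem sgnGL_val (ε : ι → ℤˣ) : (sgnGL (F := F) ε).1 = sgnMat ε := rfl

theorem sgn_sq (e : ℤˣ) : ((e : ℤ) : F) ^ 2 = 1 := by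
  rcases Int.units_eq_one_or e with rfl | rfl <;> simp

theorem sgnGL_mem (w : ι → F) (ε : ι → ℤˣ) : sgnGL ε ∈ Cfsg.isometryGroup F (diagForm w) := by
  rw [mem_isometryGroup]
  intro u
  refine Finset.sum_congr rfl fun i _ => ?_
  simp only [sgnGL_val, sgnMat, mulVec_diagonal]
  rw [mul_pow, sgn_sq, one_mul]

/-- Sign matrices as isometries. -/
def sgnHom (w : ι → F) : (ι → ℤˣ) →* Cfsg.isometryGroup F (diagForm w) :=
  (sgnGL (F := F)).codRestrict _ (sgnGL_mem w)

@[simp] theorem sgnHom_val (w : ι → F) (ε : ι → ℤˣ) : ((sgnHom w ε).1).1 = sgnMat ε := rfl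

theorem sgnHom_injective (h2 : (2 : F) ≠ 0) (w : ι → F) : Function.Injective (sgnHom w) := by
  intro ε ε' h
  have hm : sgnMat (F := F) ε = sgnMat ε' := by
    have := congrArg (fun z : Cfsg.isometryGroup F (diagForm w) => ((z.1).1 : Matrix ι ι F)) h
    simpa using this
  funext i
  have h1 := congrFun (congrFun hm i) i
  simp only [sgnMat, diagonal_apply_eq] at h1
  rcases Int.units_eq_one_or (ε i) with h3 | h3 <;> rcases Int.units_eq_one_or (ε' i) with h4 | h4
  · rw [h3, h4]
  · exfalso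
    rw [h3, h4] at h1
    apply h2
    push_cast at h1
    linear_combination h1
  · exfalso
    rw [h3, h4] at h1
    apply h2
    push_cast at h1
    linear_combination -h1
  · rw [h3, h4]

theorem sgnHom_sq (w : ι → F) (ε : ι → ℤˣ) : sgnHom w ε * sgnHom w ε = 1 := by
  rw [← map_mul]
  have : ε * ε = 1 := by
    funext i
    simp
  rw [this, map_one]

end SignDiag

section O2

variable {F : Type*} [Field F]

/-- The isometry group of `x² + y²`. -/
abbrev O2 (F : Type*) [Field F] := Cfsg.isometryGroup F (diagForm (fun _ : Fin 2 => (1 : F)))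

/-- A reflection. -/
def g0 (F : Type*) [Field F] : O2 F := sgnHom _ ![1, -1]

theorem g0_mul_self : g0 F * g0 F = 1 := sgnHom_sq _ _

theorem g0_inv : (g0 F)⁻¹ = g0 F := inv_eq_of_mul_eq_one_left g0_mul_self

theorem O2_alt (h2 : (2 : F) ≠ 0) (a : O2 F) : a * a = 1 ∨ g0 F * a * (g0 F)⁻¹ = a⁻¹ := by
  set M : Matrix (Fin 2) (Fin 2) F := a.1.1 with hM
  have ha := mem_isometryGroup.mp a.2
  have h1 : M 0 0 ^ 2 + M 1 0 ^ 2 = 1 := by
    have := ha ![1, 0]
    simpa [diagForm, Fin.sum_univ_two, mulVec, dotProduct, ← hM] using this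
  have h2' : M 0 1 ^ 2 + M 1 1 ^ 2 = 1 := by
    have := ha ![0, 1]
    simpa [diagForm, Fin.sum_univ_two, mulVec, dotProduct, ← hM] using this
  have h3 : M 0 0 * M 0 1 + M 1 0 * M 1 1 = 0 := by
    have := ha ![1, 1]
    simp only [diagForm, Fin.sum_univ_two, mulVec, dotProduct, ← hM, Matrix.cons_val_zero,
      Matrix.cons_val_one, Matrix.cons_val_fin_one, mul_one, one_mul] at this
    have h4 : 2 * (M 0 0 * M 0 1 + M 1 0 * M 1 1) = 0 := by
      linear_combination this - h1 - h2'
    exact (mul_eq_zero.mp h4).resolve_left h2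
  set p := M 0 0 with hp
  set q := M 0 1 with hq
  set r := M 1 0 with hr
  set s := M 1 1 with hs
  set δ := p * s - q * r with hδ
  have hδ2 : (δ - 1) * (δ + 1) = 0 := by
    rw [hδ]
    linear_combination (q ^ 2 + s ^ 2) * h1 + h2' - (p * q + r * s) * h3
  have hs' : s = δ * p := by
    rw [hδ]
    linear_combination (-s) * h1 + r * h3
  have hq' : q = - δ * r := by
    rw [hδ]
    linear_combination (-q) * h1 + p * h3
  have hMe : M = !![p, q; r, s] := (Matrix.eta_fin_two M)
  rcases mul_eq_zero.mp hδ2 with h | h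
  · right
    have hd : δ = 1 := by linear_combination h
    rw [hd] at hs' hq'
    apply eq_inv_of_mul_eq_one_left
    apply Subtype.ext
    apply Units.ext
    rw [g0_inv]
    change sgnMat ![1, -1] * M * sgnMat ![1, -1] * M = 1
    rw [hMe, hs', hq']
    ext i j
    fin_cases i <;> fin_cases j <;>
      simp [sgnMat, Matrix.mul_apply, Fin.sum_univ_two, diagonal_apply, ← hM]
    · linear_combination h1
    · ring
    · ring
    · linear_combination h1
  · left
    have hd : δ = -1 := by linear_combination h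
    rw [hd] at hs' hq'
    apply Subtype.ext
    apply Units.ext
    change M * M = 1
    rw [hMe, hs', hq']
    ext i j
    fin_cases i <;> fin_cases j <;>
      simp [Matrix.mul_apply, Fin.sum_univ_two, ← hM]
    · linear_combination h1
    · ring
    · ring
    · linear_combination h1

end O2

section BlockHom

variable {F : Type*} [Field F] {α β : Type} [Fintype α] [DecidableEq α] [Fintype β] [DecidableEq β]

/-- Block sums in the general linear group. -/
def blockGL : GL α F × GL β F →* GL (α ⊕ β) F :=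
  MonoidHom.toHomUnits
    { toFun := fun g => fromBlocks g.1.1 0 0 g.2.1
      map_one' := by
        simp
      map_mul' := fun g g' => by
        simp [fromBlocks_multiply] }

theorem blockGL_val (g : GL α F × GL β F) : (blockGL g).1 = fromBlocks g.1.1 0 0 g.2.1 := rfl

theorem blockGL_mem (w₁ : α → F) (w₂ : β → F) (g : GL α F) (k : GL β F)
    (hg : g ∈ Cfsg.isometryGroup F (diagForm w₁)) (hk : k ∈ Cfsg.isometryGroup F (diagForm w₂)) :
    blockGL (g, k) ∈ Cfsg.isometryGroup F (diagForm (Sum.elim w₁ w₂)) := by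
  rw [mem_isometryGroup] at hg hk ⊢
  intro u
  rw [blockGL_val, diagForm_sum, diagForm_sum]
  have e := fromBlocks_mulVec (n := α) (o := β) (l := α) (m := β) g.1 0 0 k.1 u
  simp only [zero_mulVec, add_zero, zero_add] at e
  rw [e]
  simp only [Sum.elim_inl, Sum.elim_inr]
  exact congrArg₂ (· + ·) (hg _) (hk _)

/-- Orthogonal sums of isometries. -/
def blockHom (w₁ : α → F) (w₂ : β → F) :
    Cfsg.isometryGroup F (diagForm w₁) × Cfsg.isometryGroup F (diagForm w₂) →*
      Cfsg.isometryGroup F (diagForm (Sum.elim w₁ w₂)) :=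
  ((blockGL (F := F) (α := α) (β := β)).comp
    (MonoidHom.prodMap (Cfsg.isometryGroup F (diagForm w₁)).subtype
      (Cfsg.isometryGroup F (diagForm w₂)).subtype)).codRestrict _
    (fun g => blockGL_mem w₁ w₂ g.1.1 g.2.1 g.1.2 g.2.2)

theorem blockHom_val (w₁ : α → F) (w₂ : β → F)
    (g : Cfsg.isometryGroup F (diagForm w₁) × Cfsg.isometryGroup F (diagForm w₂)) :
    ((blockHom w₁ w₂ g).1).1 = fromBlocks g.1.1.1 0 0 g.2.1.1 := rfl

theorem blockHom_injective (w₁ : α → F) (w₂ : β → F) : Function.Injective (blockHom w₁ w₂) := by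
  intro g g' h
  have hm := congrArg (fun z : Cfsg.isometryGroup F (diagForm (Sum.elim w₁ w₂)) =>
    ((z.1).1 : Matrix (α ⊕ β) (α ⊕ β) F)) h
  simp only [blockHom_val] at hm
  obtain ⟨h1, -, -, h4⟩ := Matrix.fromBlocks_inj.mp hm
  exact Prod.ext (Subtype.ext (Units.ext h1)) (Subtype.ext (Units.ext h4))

end BlockHom

section Wreath

variable {F : Type*} [Field F] {s : ℕ}

theorem glD_mulVec (x : Fin s → GL (Fin 2) F) (v : Fin 2 × Fin s → F) (a : Fin 2) (k : Fin s) :
    ((glD x).1 *ᵥ v) (a, k) = ((x k).1 *ᵥ fun b => v (b, k)) a := by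
  simp only [mulVec, dotProduct, glD_val, Fintype.sum_prod_type_right]
  rw [Finset.sum_eq_single k]
  · refine Finset.sum_congr rfl fun b _ => ?_
    simp [blockDiagonal_apply]
  · intro l _ hl
    refine Finset.sum_eq_zero fun b _ => ?_
    simp [blockDiagonal_apply, hl.symm]
  · simp

theorem QI_eq (v : Fin 2 × Fin s → F) :
    diagForm (fun _ : Fin 2 × Fin s => (1 : F)) v =
      ∑ k, diagForm (fun _ : Fin 2 => (1 : F)) (fun a => v (a, k)) := by
  simp [diagForm, Fintype.sum_prod_type_right]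

theorem glD_mem (x : Fin s → O2 F) :
    glD (fun k => (x k).1) ∈ Cfsg.isometryGroup F (diagForm (fun _ : Fin 2 × Fin s => (1 : F))) := by
  rw [mem_isometryGroup]
  intro u
  rw [QI_eq, QI_eq]
  refine Finset.sum_congr rfl fun k _ => ?_
  have := mem_isometryGroup.mp (x k).2 (fun b => u (b, k))
  rw [← this]
  congr 1
  funext a
  exact glD_mulVec _ u a k

/-- The base of the wreath product. -/
def oD : (Fin s → O2 F) →* Cfsg.isometryGroup F (diagForm (fun _ : Fin 2 × Fin s => (1 : F))) :=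
  ((glD (F := F) (m := s)).comp ((O2 F).subtype.compLeft (Fin s))).codRestrict _ glD_mem

theorem pm_mulVec {ι : Type} [Fintype ι] [DecidableEq ι] (τ : Perm ι) (v : ι → F) (i : ι) :
    (pm τ *ᵥ v) i = v (τ⁻¹ i) := by
  simp only [mulVec, dotProduct, pm_apply]
  rw [Finset.sum_eq_single (τ⁻¹ i)]
  · simp
  · intro b _ hb
    have : i ≠ τ b := fun hc => hb (by rw [hc]; simp)
    simp [this]
  · simp

theorem pmGL_mem {ι : Type} [Fintype ι] [DecidableEq ι] (τ : Perm ι) :
    pmGL τ ∈ Cfsg.isometryGroup F (diagForm (fun _ : ι => (1 : F))) := by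
  rw [mem_isometryGroup]
  intro u
  unfold diagForm
  rw [← Equiv.sum_comp τ]
  refine Finset.sum_congr rfl fun i _ => ?_
  simp [pm_mulVec]

/-- Permutation matrices as isometries. -/
def oPerm {ι : Type} [Fintype ι] [DecidableEq ι] :
    Perm ι →* Cfsg.isometryGroup F (diagForm (fun _ : ι => (1 : F))) :=
  (pmGL (F := F)).codRestrict _ pmGL_mem

/-- The top of the wreath product. -/
def oPm : Perm (Fin s) →* Cfsg.isometryGroup F (diagForm (fun _ : Fin 2 × Fin s => (1 : F))) :=
  oPerm.comp liftI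

theorem oWrData : WrData (oD (F := F) (s := s)) oPm where
  conj σ x := by
    apply Subtype.ext
    exact glWrData.conj σ (fun k => (x k).1)
  uniq x y σ τ h := by
    have h1 := glWrData.uniq (fun k => (x k).1) (fun k => (y k).1) σ τ
      (congrArg (fun z : Cfsg.isometryGroup F (diagForm (fun _ : Fin 2 × Fin s => (1 : F))) => z.1) h)
    exact ⟨funext fun k => Subtype.ext (congrFun h1.1 k), h1.2⟩

/-- A block permutation is a commutator. -/
theorem liftI_swap_mem (x y : Fin s) : liftI (swap x y) ∈ commutator (Perm (Fin 2 × Fin s)) := by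
  let τ : Perm (Fin 2 × Fin s) := swap (0, x) (0, y)
  let ρ : Perm (Fin 2 × Fin s) := Equiv.prodCongr (swap 0 1) (Equiv.refl _)
  have τ1 : ∀ l, τ (1, l) = (1, l) := fun l =>
    swap_apply_of_ne_of_ne (by simp) (by simp)
  have τ0 : ∀ l, τ (0, l) = (0, swap x y l) := by
    intro l
    by_cases h1 : l = x
    · subst h1
      simp [τ]
    · by_cases h2 : l = y
      · subst h2
        simp [τ]
      · rw [swap_apply_of_ne_of_ne h1 h2]
        exact swap_apply_of_ne_of_ne (by simp [h1]) (by simp [h2])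
  have ρ0 : ∀ l, ρ (0, l) = (1, l) := fun l => by simp [ρ]
  have ρ1 : ∀ l, ρ (1, l) = (0, l) := fun l => by simp [ρ]
  have hρ : ρ⁻¹ = ρ := by
    rw [inv_eq_iff_mul_eq_one]
    ext ⟨b, l⟩ : 1
    revert b
    rw [Fin.forall_fin_two]
    constructor
    · change ρ (ρ (0, l)) = (0, l)
      rw [ρ0, ρ1]
    · change ρ (ρ (1, l)) = (1, l)
      rw [ρ1, ρ0]
  have hτ : τ⁻¹ = τ := swap_inv _ _
  have h : liftI (swap x y) = ⁅τ, ρ⁆ := by
    rw [commutatorElement_def, hρ, hτ]
    ext ⟨a, k⟩ : 1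
    revert a
    rw [Fin.forall_fin_two]
    constructor
    · change (0, swap x y k) = τ (ρ (τ (ρ (0, k))))
      rw [ρ0, τ1, ρ1, τ0]
    · change (1, swap x y k) = τ (ρ (τ (ρ (1, k))))
      rw [ρ1, τ0, ρ0, τ1]
  rw [h]
  exact Subgroup.commutator_mem_commutator (Subgroup.mem_top _) (Subgroup.mem_top _)

theorem liftI_mem (σ : Perm (Fin s)) : liftI σ ∈ commutator (Perm (Fin 2 × Fin s)) := by
  induction σ using Equiv.Perm.swap_induction_on with
  | one =>
    rw [map_one]
    exact one_mem _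
  | swap_mul f x y _ hf =>
    rw [map_mul]
    exact mul_mem (liftI_swap_mem x y) hf

end Wreath

section Main

variable {F : Type*} [Field F]

theorem map_mem_commutator {G H : Type*} [Group G] [Group H] (f : G →* H) {x : G}
    (hx : x ∈ commutator G) : f x ∈ commutator H := by
  have h1 : f x ∈ (commutator G).map f := Subgroup.mem_map_of_mem _ hx
  unfold commutator at h1 ⊢
  rw [Subgroup.map_commutator] at h1
  exact Subgroup.commutator_mono le_top le_top h1

theorem exists_P1 [Fintype F] (h2 : (2 : F) ≠ 0) (s t : ℕ) (hs : 2 ≤ s) (c : Fin t → F) :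
    ∃ P₁ : Subgroup (Cfsg.isometryGroup F (diagForm (Sum.elim (fun _ : Fin 2 × Fin s => (1 : F)) c))),
      Nat.card P₁ = 2 ^ (s * (Nat.card (O2 F)).factorization 2 + padicValNat 2 s.factorial + t) ∧
      ∀ g ∈ P₁ ⊓ commutator (Cfsg.isometryGroup F (diagForm (Sum.elim (fun _ : Fin 2 × Fin s => (1 : F)) c))),
        g ^ 2 ∈ ⁅P₁ ⊓ commutator (Cfsg.isometryGroup F (diagForm (Sum.elim (fun _ : Fin 2 × Fin s => (1 : F)) c))),
          P₁ ⊓ commutator (Cfsg.isometryGroup F (diagForm (Sum.elim (fun _ : Fin 2 × Fin s => (1 : F)) c)))⁆ := by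
  classical
  haveI : Fact (Nat.Prime 2) := ⟨Nat.prime_two⟩
  -- the Sylow subgroup of the plane
  have hpg : IsPGroup 2 (Subgroup.zpowers (g0 F)) := by
    rintro ⟨g, z, rfl⟩
    refine ⟨1, ?_⟩
    apply Subtype.ext
    have : (g0 F ^ z) ^ 2 = 1 := by
      rw [← zpow_natCast, ← _root_.zpow_mul, mul_comm, _root_.zpow_mul]
      have h3 : (g0 F) ^ ((2 : ℕ) : ℤ) = 1 := by
        rw [zpow_natCast, pow_two, g0_mul_self]
      rw [h3, _root_.one_zpow]
    simpa using this
  obtain ⟨R₀, hR₀⟩ := hpg.exists_le_sylow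
  have hg₀ : g0 F ∈ (R₀ : Subgroup (O2 F)) := hR₀ (Subgroup.mem_zpowers _)
  obtain ⟨T, U, hT, hmod⟩ := exists_model 2 s (Fin s) (by simp)
  set w₁ : Fin 2 × Fin s → F := fun _ => 1 with hw₁
  let Φ := blockHom w₁ c
  let K₀ : Subgroup (Cfsg.isometryGroup F (diagForm c)) := (sgnHom c).range
  let M₀ := wrSub oWrData (R₀ : Subgroup (O2 F)) T
  let P₁ := (M₀.prod K₀).map Φ
  have hΦ : Function.Injective Φ := blockHom_injective w₁ c
  refine ⟨P₁, ?_, ?_⟩
  · rw [Nat.card_congr (Subgroup.equivMapOfInjective _ Φ hΦ).symm.toEquiv]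
    rw [Nat.card_congr (Subgroup.prodEquiv M₀ K₀).toEquiv, Nat.card_prod, card_wrSub, hT]
    have hK : Nat.card K₀ = 2 ^ t := by
      rw [← Nat.card_congr (MonoidHom.ofInjective (sgnHom_injective h2 c)).toEquiv]
      rw [Nat.card_fun, Nat.card_eq_fintype_card (α := ℤˣ), Fintype.card_units_int]
      simp
    rw [hK, Sylow.card_eq_multiplicity R₀, ← pow_mul, ← pow_add, ← pow_add]
    congr 1
    ring
  · -- apply the abstract theorem
    let ιl := MonoidHom.inl (Cfsg.isometryGroup F (diagForm w₁)) (Cfsg.isometryGroup F (diagForm c))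
    let ιr := MonoidHom.inr (Cfsg.isometryGroup F (diagForm w₁)) (Cfsg.isometryGroup F (diagForm c))
    let D := Φ.comp (ιl.comp (oD (F := F) (s := s)))
    let Pm := Φ.comp (ιl.comp (oPm (F := F) (s := s)))
    let K := K₀.map (Φ.comp ιr)
    have hcomm : ∀ (a : Cfsg.isometryGroup F (diagForm w₁)) (κ : Cfsg.isometryGroup F (diagForm c)),
        Φ (ιr κ) * Φ (ιl a) = Φ (ιl a) * Φ (ιr κ) := by
      intro a κ
      rw [← map_mul, ← map_mul]
      congr 1
      ext1 <;> simp [ιl, ιr]
    refine omega_exp hs D Pm ?_ (R₀ : Subgroup (O2 F)) T K (g0 F) hg₀ g0_mul_self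
      (fun a _ => O2_alt h2 a) hmod.pow_mem ?_ ?_ ?_ ?_ P₁ ?_ ?_ ?_
    · intro σ x
      simp only [D, Pm, MonoidHom.comp_apply]
      rw [← map_mul, ← map_mul, ← map_mul, ← map_mul, oWrData.conj]
    · rintro _ ⟨κ, ⟨ε, rfl⟩, rfl⟩
      simp only [MonoidHom.comp_apply]
      rw [← map_mul, ← map_mul, sgnHom_sq, map_one, map_one]
    · rintro _ ⟨κ, -, rfl⟩ x
      exact hcomm _ _
    · rintro _ ⟨κ, -, rfl⟩ σ
      exact hcomm _ _
    · intro σ
      have h1 := map_mem_commutator (Φ.comp (ιl.comp (oPerm (F := F)))) (liftI_mem (s := s) σ)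
      exact h1
    · rintro _ ⟨⟨m, κ⟩, ⟨hm, hκ⟩, rfl⟩
      obtain ⟨x, hx, σ, hσ, rfl⟩ := hm
      refine ⟨x, hx, σ, hσ, Φ (ιr κ), ⟨κ, hκ, rfl⟩, ?_⟩
      simp only [D, Pm, MonoidHom.comp_apply]
      rw [← map_mul, ← map_mul]
      congr 1
      ext1 <;> simp [ιl, ιr]
    · intro x hx
      exact ⟨(oD x, 1), ⟨D_mem_wrSub oWrData hx, one_mem _⟩, rfl⟩
    · intro σ hσ
      exact ⟨(oPm σ, 1), ⟨Pm_mem_wrSub oWrData hσ, one_mem _⟩, rfl⟩

end Main

end Cfsg.Agent.Lib.AltChar
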