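import Mathlib
import Cfsg.Agent.Lib.AltChar.WrDerived
import Cfsg.Agent.Lib.AltChar.OmegaModel
import Cfsg.Agent.Lib.AltChar.NormalRank2

/-!
# Cross-characteristic Sylow subgroups of general linear groups: the monomial model.
-/

set_option autoImplicit false
set_option linter.unusedSectionVars false

open Equiv Matrix
open scoped MatrixGroups

namespace Cfsg.Agent.Lib.AltChar

section Block

variable {F : Type*} [Field F] {ι : Type} [Fintype ι] [DecidableEq ι] {m : ℕ}

/-- The block permutation. -/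
def liftJ : Perm (Fin m) →* Perm (ι × Fin m) where
  toFun σ := Equiv.prodCongrRight fun _ => σ
  map_one' := by
    ext ⟨a, k⟩ <;> simp
  map_mul' σ τ := by
    ext ⟨a, k⟩ <;> simp

@[simp] theorem liftJ_apply (σ : Perm (Fin m)) (a : ι) (k : Fin m) :
    liftJ σ (a, k) = (a, σ k) := rfl

@[simp] theorem liftJ_inv_apply (σ : Perm (Fin m)) (a : ι) (k : Fin m) :
    (liftJ σ)⁻¹ (a, k) = (a, σ⁻¹ k) := by
  rw [Perm.inv_eq_iff_eq]
  simp

/-- The block-diagonal homomorphism. -/
def glDJ : (Fin m → GL ι F) →* GL (ι × Fin m) F :=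
  (Units.map (blockDiagonalRingHom ι (Fin m) F : _ →* _)).comp
    (MulEquiv.piUnits (M := fun _ : Fin m => Matrix ι ι F)).symm.toMonoidHom

@[simp] theorem glDJ_val (x : Fin m → GL ι F) :
    (glDJ x).1 = blockDiagonal fun k => (x k).1 := rfl

/-- The block permutation homomorphism. -/
def glPmJ : Perm (Fin m) →* GL (ι × Fin m) F := pmGL.comp liftJ

@[simp] theorem glPmJ_val (σ : Perm (Fin m)) : (glPmJ (F := F) (ι := ι) σ).1 = pm (liftJ σ) := rfl

theorem glWrDataJ [Nonempty ι] : WrData (glDJ (F := F) (ι := ι) (m := m)) glPmJ where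
  conj σ x := by
    apply Units.ext
    ext ⟨a, k⟩ ⟨b, l⟩
    simp only [Units.val_mul, glPmJ_val, glDJ_val]
    rw [pm_mul_apply (ι := ι × Fin m), mul_pm_apply (ι := ι × Fin m)]
    simp only [liftJ_inv_apply, liftJ_apply, blockDiagonal_apply', Perm.inv_eq_iff_eq]
  uniq x y σ τ h := by
    have hm := congrArg Units.val h
    simp only [Units.val_mul, glPmJ_val, glDJ_val] at hm
    have he : ∀ (a b : ι) (k l : Fin m),
        (if k = σ l then (x k).1 a b else 0) = (if k = τ l then (y k).1 a b else 0) := by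
      intro a b k l
      have := congrFun (congrFun hm (a, k)) (b, l)
      rw [mul_pm_apply (ι := ι × Fin m), mul_pm_apply (ι := ι × Fin m)] at this
      simpa only [liftJ_apply, blockDiagonal_apply'] using this
    have hστ : σ = τ := Equiv.ext fun l => by
      by_contra hc
      have h0 : (x (σ l)).1 = 0 := by
        ext a b
        have := he a b (σ l) l
        simpa [hc] using this
      have := (x (σ l)).isUnit
      rw [h0] at this
      exact not_isUnit_zero this
    subst hστ
    refine ⟨funext fun k => ?_, rfl⟩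
    obtain ⟨l, rfl⟩ := σ.surjective k
    apply Units.ext
    ext a b
    simpa using he a b (σ l) l

end Block

section Embed

variable {F : Type*} [Field F] {α β : Type} [Fintype α] [DecidableEq α] [Fintype β] [DecidableEq β]
  {κ : Type} [Fintype κ] [DecidableEq κ]

/-- Embedding a general linear group as a block, into a reindexed larger one. -/
def glEmb (e : α ⊕ β ≃ κ) : GL α F →* GL κ F :=
  (glReindex e).toMonoidHom.comp ((blockGL (F := F) (α := α) (β := β)).comp (MonoidHom.inl _ _))

theorem glEmb_injective (e : α ⊕ β ≃ κ) : Function.Injective (glEmb (F := F) e) := by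
  intro g g' h
  have h1 : blockGL (F := F) (α := α) (β := β) (g, 1) = blockGL (g', 1) := (glReindex e).injective h
  have hm := congrArg Units.val h1
  simp only [blockGL_val] at hm
  obtain ⟨h2, -, -, -⟩ := Matrix.fromBlocks_inj.mp hm
  exact Units.ext h2

end Embed

section Val

variable {p : ℕ} [hp : Fact p.Prime]

/-- `∑_{j < n} v_p(q^(j+1) - 1)`. -/
def fValP (p q n : ℕ) : ℕ := ∑ j ∈ Finset.range n, padicValNat p (q ^ (j + 1) - 1)

theorem fValP_succ (q n : ℕ) : fValP p q (n + 1) = fValP p q n + padicValNat p (q ^ (n + 1) - 1) :=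
  Finset.sum_range_succ _ _

theorem val_gl_prodP {q : ℕ} (hq : 2 ≤ q) (hnd : ¬ p ∣ q) (n : ℕ) :
    padicValNat p (∏ i : Fin n, (q ^ n - q ^ (i : ℕ))) = fValP p q n := by
  have hpp : p.Prime := hp.out
  have hv : ∀ k, padicValNat p (q ^ k) = 0 := fun k =>
    padicValNat.eq_zero_of_not_dvd fun h => hnd (Nat.Prime.dvd_of_dvd_pow hpp h)
  have hne : ∀ k, k ≠ 0 → q ^ k - 1 ≠ 0 := by
    intro k hk
    have : 1 < q ^ k := Nat.one_lt_pow hk (by omega)
    omega
  rw [Fin.prod_univ_eq_prod_range (fun i => q ^ n - q ^ i) n]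
  have key : ∀ (s : Finset ℕ), (∀ i ∈ s, i < n) →
      padicValNat p (∏ i ∈ s, (q ^ n - q ^ i)) = ∑ i ∈ s, padicValNat p (q ^ (n - i) - 1) := by
    intro s
    induction s using Finset.induction_on with
    | empty => simp
    | insert a s ha ih =>
      intro hs
      have hfac : ∀ i, i < n → q ^ n - q ^ i = q ^ i * (q ^ (n - i) - 1) := by
        intro i hi
        rw [Nat.mul_sub, mul_one, ← pow_add]
        congr 2
        omega
      have hne2 : ∀ i, i < n → q ^ n - q ^ i ≠ 0 := by
        intro i hi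
        rw [hfac i hi]
        exact mul_ne_zero (pow_ne_zero _ (by omega)) (hne _ (by omega))
      rw [Finset.prod_insert ha, Finset.sum_insert ha,
        padicValNat.mul (hne2 a (hs a (by simp)))
          (Finset.prod_ne_zero_iff.mpr fun i hi => hne2 i (hs i (by simp [hi]))),
        ih fun i hi => hs i (by simp [hi]), hfac a (hs a (by simp)),
        padicValNat.mul (pow_ne_zero _ (by omega)) (hne _ (by have := hs a (by simp); omega)), hv,
        zero_add]
  rw [key _ fun i hi => Finset.mem_range.mp hi, fValP, ← Finset.sum_range_reflect]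
  refine Finset.sum_congr rfl fun i hi => ?_
  have := Finset.mem_range.mp hi
  congr 3
  omega

/-- Cast criterion for the order of `q` modulo `p`. -/
theorem dvd_pow_sub_one_iff {q : ℕ} (hq : 2 ≤ q) (k : ℕ) :
    p ∣ q ^ k - 1 ↔ orderOf (q : ZMod p) ∣ k := by
  rw [orderOf_dvd_iff_pow_eq_one, ← ZMod.natCast_eq_zero_iff (q ^ k - 1) p,
    Nat.cast_sub (Nat.one_le_pow _ _ (by omega))]
  push_cast
  exact sub_eq_zero

theorem orderOf_cast_pos {q : ℕ} (hnd : ¬ p ∣ q) : 0 < orderOf (q : ZMod p) := by
  have h1 : (q : ZMod p) ≠ 0 := by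
    rwa [Ne, ZMod.natCast_eq_zero_iff]
  have h2 : IsUnit (q : ZMod p) := h1.isUnit
  obtain ⟨u, hu⟩ := h2
  rw [← hu, orderOf_units]
  exact orderOf_pos u

/-- The `p`-part of the general linear group: `v_p(|GL_n(q)|) = w a + v_p(w!)`. -/
theorem fValP_eq (hodd : p ≠ 2) {q : ℕ} (hq : 2 ≤ q) (hnd : ¬ p ∣ q) (n : ℕ) :
    fValP p q n = (n / orderOf (q : ZMod p)) * padicValNat p (q ^ orderOf (q : ZMod p) - 1) +
      padicValNat p (n / orderOf (q : ZMod p)).factorial := by
  have hpp : p.Prime := hp.out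
  have he := orderOf_cast_pos hnd
  obtain ⟨e, hee⟩ : ∃ e, e = orderOf (q : ZMod p) := ⟨_, rfl⟩
  rw [← hee] at he ⊢
  have hdv := fun k => (dvd_pow_sub_one_iff (p := p) hq k)
  rw [← hee] at hdv
  have hone : 1 < q ^ e := Nat.one_lt_pow he.ne' (by omega)
  have hpe : p ∣ q ^ e - 1 := (hdv e).mpr dvd_rfl
  have hnde : ¬ p ∣ q ^ e := fun h => hnd (hpp.dvd_of_dvd_pow h)
  have hpodd : Odd p := hpp.odd_of_ne_two hodd
  induction n with
  | zero => simp [fValP]
  | succ n ih =>
    rw [fValP_succ, ih]
    by_cases hd : e ∣ n + 1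
    · rw [Nat.succ_div_of_dvd hd, Nat.factorial_succ, padicValNat.mul (Nat.succ_ne_zero _) (Nat.factorial_ne_zero _)]
      obtain ⟨t, ht⟩ := hd
      have ht0 : t ≠ 0 := by
        rintro rfl
        omega
      have hdiv : n / e + 1 = t := by
        have h2 : (n + 1) / e = t := by
          rw [ht]
          exact Nat.mul_div_cancel_left t he
        rw [Nat.succ_div_of_dvd ⟨t, ht⟩] at h2
        exact h2
      have h3 := padicValNat.pow_sub_pow (p := p) hpodd (x := q ^ e) (y := 1) hone hpe hnde ht0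
      rw [one_pow, ← pow_mul, ← ht] at h3
      rw [h3, hdiv, ← hdiv]
      ring
    · rw [Nat.succ_div_of_not_dvd hd, padicValNat.eq_zero_of_not_dvd (fun h => hd ((hdv _).mp h)),
        add_zero]

/-- The `p`-adic valuation of `|GL_n(q)|`. -/
theorem val_card_GLP (hodd : p ≠ 2) {F : Type*} [Field F] [Fintype F] (hnd : ¬ p ∣ Fintype.card F) (n : ℕ) :
    padicValNat p (Nat.card (Matrix.GeneralLinearGroup (Fin n) F)) =
      (n / orderOf ((Fintype.card F : ℕ) : ZMod p)) *
          padicValNat p (Fintype.card F ^ orderOf ((Fintype.card F : ℕ) : ZMod p) - 1) +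
        padicValNat p (n / orderOf ((Fintype.card F : ℕ) : ZMod p)).factorial := by
  have hq : 2 ≤ Fintype.card F := Fintype.one_lt_card
  rw [Matrix.card_GL_field, val_gl_prodP hq hnd, fValP_eq hodd hq hnd]

end Val

section Field

variable {F : Type*} [Field F] [Fintype F]

/-- A commutative subgroup of `GL_e(F)` of the full `p`-part of order `q^e - 1`. -/
theorem exists_torus (p : ℕ) [hp : Fact p.Prime] (e : ℕ) (he : e ≠ 0) :
    ∃ C : Subgroup (GL (Fin e) F), Nat.card C = p ^ padicValNat p (Fintype.card F ^ e - 1) ∧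
      ∀ x ∈ C, ∀ y ∈ C, x * y = y * x := by
  classical
  obtain ⟨r, hr⟩ := CharP.exists F
  haveI : Fact r.Prime := ⟨CharP.char_is_prime F r⟩
  haveI : NeZero e := ⟨he⟩
  let E := FiniteField.Extension F r e
  have hfin : Module.finrank F E = e := FiniteField.finrank_extension F r e
  let b : Module.Basis (Fin e) F E := Module.finBasisOfFinrankEq F E hfin
  let ψ : Eˣ →* GL (Fin e) F := Units.map (Algebra.leftMulMatrix b).toRingHom.toMonoidHom
  have hψ : Function.Injective ψ := by
    apply Units.map_injective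
    exact Algebra.leftMulMatrix_injective b
  have hcard : Nat.card Eˣ = Fintype.card F ^ e - 1 := by
    haveI : Fintype E := Fintype.ofFinite E
    rw [Nat.card_eq_fintype_card, Fintype.card_units, ← Nat.card_eq_fintype_card (α := E),
      FiniteField.natCard_extension, Nat.card_eq_fintype_card]
  obtain ⟨C₀⟩ : Nonempty (Sylow p Eˣ) := inferInstance
  refine ⟨(C₀ : Subgroup Eˣ).map ψ, ?_, ?_⟩
  · rw [Nat.card_congr (Subgroup.equivMapOfInjective _ ψ hψ).symm.toEquiv, Sylow.card_eq_multiplicity,
      Nat.factorization_def _ hp.out, hcard]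
  · rintro _ ⟨x, -, rfl⟩ _ ⟨y, -, rfl⟩
    rw [← map_mul, ← map_mul, mul_comm]

end Field

end Cfsg.Agent.Lib.AltChar
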