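import Mathlib
import Cfsg.Agent.Lib.AltChar.GL2Data
import Cfsg.Agent.Lib.Known3.SelfCent

/-!
# Sylow `2`-subgroups of `SL_{2m}(q)`, `q ≡ 3 mod 4`.
-/

set_option autoImplicit false
set_option linter.unusedSectionVars false

open Equiv Matrix
open scoped MatrixGroups

namespace Cfsg.Agent.Lib.AltChar

theorem wrSub_mono {Γ R : Type*} [Group Γ] [Group R] {n : ℕ} {D : (Fin n → R) →* Γ}
    {Pm : Perm (Fin n) →* Γ} (h : WrData D Pm) {R₀ R₁ : Subgroup R} (hR : R₀ ≤ R₁)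
    (T : Subgroup (Perm (Fin n))) : wrSub h R₀ T ≤ wrSub h R₁ T := by
  rintro _ ⟨x, hx, σ, hσ, rfl⟩
  exact ⟨x, fun i => hR (hx i), σ, hσ, rfl⟩

/-- From subgroups of `GL` back to `SL`. -/
theorem exp_comap_toGL {ι : Type*} [Fintype ι] [DecidableEq ι] {F : Type*} [Field F]
    (M₀ : Subgroup (GL ι F))
    (hE : ∀ g ∈ M₀.comap SpecialLinearGroup.toGL |>.map SpecialLinearGroup.toGL,
      g ^ 2 ∈ ⁅M₀.comap SpecialLinearGroup.toGL |>.map SpecialLinearGroup.toGL,
        M₀.comap SpecialLinearGroup.toGL |>.map SpecialLinearGroup.toGL⁆) :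
    ∀ g ∈ M₀.comap (SpecialLinearGroup.toGL (n := ι) (R := F)),
      g ^ 2 ∈ ⁅M₀.comap (SpecialLinearGroup.toGL (n := ι) (R := F)),
        M₀.comap (SpecialLinearGroup.toGL (n := ι) (R := F))⁆ := by
  intro g hg
  have h1 := hE (SpecialLinearGroup.toGL g) ⟨g, hg, rfl⟩
  rw [← Subgroup.map_commutator, ← map_pow] at h1
  exact (Subgroup.mem_map_iff_mem SpecialLinearGroup.toGL_injective).mp h1

/-- The image under `toGL` of the comap. -/
theorem mem_map_comap_toGL {ι : Type*} [Fintype ι] [DecidableEq ι] {F : Type*} [Field F]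
    (M : Subgroup (GL ι F)) (a : GL ι F) :
    a ∈ (M.comap SpecialLinearGroup.toGL).map SpecialLinearGroup.toGL ↔
      a ∈ M ∧ GeneralLinearGroup.det a = 1 := by
  constructor
  · rintro ⟨a', ha', rfl⟩
    exact ⟨ha', SpecialLinearGroup.coeToGL_det a'⟩
  · rintro ⟨ha, hd⟩
    have hd' : (a : Matrix ι ι F).det = 1 := by
      have := congrArg Units.val hd
      simpa using this
    refine ⟨⟨a.1, hd'⟩, ?_, Units.ext rfl⟩
    change SpecialLinearGroup.toGL _ ∈ M
    convert ha using 1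
    exact Units.ext rfl

section Three

variable {F : Type*} [Field F] {m : ℕ}

/-- Squares lie in the commutator subgroup of `(H ≀ T) ∩ SL`. -/
theorem exp_M0 {H K : Subgroup (GL (Fin 2) F)} (hD : GL2Data H K) (T : Subgroup (Perm (Fin m)))
    (hT : ∀ σ ∈ T, σ ^ 2 ∈ ⁅T, T⁆) :
    ∀ g ∈ (wrSub glWrData H T) ⊓ (GeneralLinearGroup.det : GL (Fin 2 × Fin m) F →* Fˣ).ker,
      g ^ 2 ∈ ⁅(wrSub glWrData H T) ⊓ (GeneralLinearGroup.det : GL (Fin 2 × Fin m) F →* Fˣ).ker,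
        (wrSub glWrData H T) ⊓ (GeneralLinearGroup.det : GL (Fin 2 × Fin m) F →* Fˣ).ker⁆ := by
  set M₀ := (wrSub glWrData H T) ⊓ (GeneralLinearGroup.det : GL (Fin 2 × Fin m) F →* Fˣ).ker with hM₀
  set M₁ := wrSub (glWrData (F := F) (m := m)) K T with hM₁def
  have hdetK : ∀ a ∈ K, GeneralLinearGroup.det a = 1 := fun a ha => ((hD.mem_K a).mp ha).2
  have hM₁ : M₁ ≤ M₀ := by
    intro g hg
    refine Subgroup.mem_inf.mpr ⟨wrSub_mono glWrData hD.le T hg, ?_⟩
    obtain ⟨x, hx, σ, hσ, rfl⟩ := hg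
    rw [MonoidHom.mem_ker, map_mul, det_glD, det_glPm, mul_one]
    exact Finset.prod_eq_one fun k _ => hdetK _ (hx k)
  have hE₁ := pow_mem_wrSub (glWrData (F := F) (m := m)) 2 hD.expK hT
  have hle : ⁅M₁, M₁⁆ ≤ ⁅M₀, M₀⁆ := Subgroup.commutator_mono hM₁ hM₁
  intro g hg
  have hg' := hg
  obtain ⟨⟨x, hx, σ, hσ, rfl⟩, hgd⟩ := Subgroup.mem_inf.mp hg
  choose k hk y hy hxy hy2 using fun i => hD.dec (x i) (hx i)
  have hxe : x = k * y := funext fun i => hxy i
  have hDk : glD k ∈ M₁ := D_mem_wrSub glWrData hk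
  have hPσ : glPm σ ∈ M₁ := Pm_mem_wrSub glWrData hσ
  have hDy : glD y ∈ M₀ := by
    have h1 : glD y = (glD k)⁻¹ * (glD x * glPm σ) * (glPm σ)⁻¹ := by
      rw [hxe, map_mul]
      group
    rw [h1]
    exact mul_mem (mul_mem (inv_mem (hM₁ hDk)) hg') (inv_mem (hM₁ hPσ))
  have hy1 : (glD y) ^ 2 = 1 := by
    rw [← map_pow]
    have : y ^ 2 = 1 := funext fun i => hy2 i
    rw [this, map_one]
  have h2 : (glD y * glPm σ) ^ 2 ∈ ⁅M₀, M₀⁆ :=
    mul_pow_mem_commutator M₀ 2 hDy (hM₁ hPσ) (by rw [hy1]; exact one_mem _) (hle (hE₁ _ hPσ))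
  have h3 : glD x * glPm σ = glD k * (glD y * glPm σ) := by
    rw [hxe, map_mul, mul_assoc]
  rw [h3]
  exact mul_pow_mem_commutator M₀ 2 (hM₁ hDk) (mul_mem hDy (hM₁ hPσ)) (hle (hE₁ _ hDk)) h2

/-- The order of `(H ≀ T) ∩ SL`. -/
theorem card_M0 {H K : Subgroup (GL (Fin 2) F)} (hD : GL2Data H K) (T : Subgroup (Perm (Fin m)))
    (hm : 1 ≤ m) (h2 : (2 : F) ≠ 0) :
    Nat.card (wrSub glWrData H T) = 2 *
      Nat.card ↥((wrSub glWrData H T) ⊓ (GeneralLinearGroup.det : GL (Fin 2 × Fin m) F →* Fˣ).ker) := by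
  classical
  obtain ⟨b, hbH, hbd⟩ := hD.exists_b
  let j : Fin m := ⟨0, hm⟩
  let β : GL (Fin 2 × Fin m) F := glD (Pi.mulSingle j b)
  have hβ : β ∈ wrSub glWrData H T := D_mem_wrSub glWrData fun i => by
    by_cases hi : i = j
    · subst hi
      simpa using hbH
    · simp [Pi.mulSingle_eq_of_ne hi, one_mem]
  have hβd : GeneralLinearGroup.det β = -1 := by
    change GeneralLinearGroup.det (glD (Pi.mulSingle j b)) = -1
    rw [det_glD, Finset.prod_eq_single j]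
    · simpa using hbd
    · intro i _ hi
      simp [Pi.mulSingle_eq_of_ne hi]
    · simp
  have hne : (-1 : Fˣ) ≠ 1 := by
    intro h
    have h1 := congrArg Units.val h
    simp only [Units.val_neg, Units.val_one] at h1
    exact h2 (by linear_combination -h1)
  have hdet : ∀ x ∈ wrSub (glWrData (F := F) (m := m)) H T,
      GeneralLinearGroup.det x = 1 ∨ GeneralLinearGroup.det x = -1 := by
    rintro _ ⟨x, hx, σ, hσ, rfl⟩
    rw [map_mul, det_glD, det_glPm, mul_one]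
    refine Finset.prod_induction _ (fun u : Fˣ => u = 1 ∨ u = -1) ?_ (Or.inl rfl)
      (fun i _ => hD.det_H _ (hx i))
    rintro a b (rfl | rfl) (rfl | rfl) <;> simp
  refine card_eq_two_mul_of_coset inf_le_left hβ ?_ ?_
  · intro h
    have := (Subgroup.mem_inf.mp h).2
    rw [MonoidHom.mem_ker, hβd] at this
    exact hne this
  · intro x hx
    rcases hdet x hx with h | h
    · exact Or.inl (Subgroup.mem_inf.mpr ⟨hx, h⟩)
    · refine Or.inr (Subgroup.mem_inf.mpr ⟨mul_mem hx (inv_mem hβ), ?_⟩)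
      rw [MonoidHom.mem_ker, map_mul, map_inv, h, hβd]
      simp

/-- Sylow `2`-subgroups of `SL_{2m}(q)`, `q ≡ 3 mod 4`. -/
theorem sl_even_three [Fintype F] (hq : 4 ∣ Fintype.card F + 1) (hm : 1 ≤ m)
    (P : Sylow 2 (SpecialLinearGroup (Fin (2 * m)) F)) :
    ∀ x : (P : Subgroup (SpecialLinearGroup (Fin (2 * m)) F)),
      x ^ 2 ∈ commutator (P : Subgroup (SpecialLinearGroup (Fin (2 * m)) F)) := by
  classical
  haveI : Fact (Nat.Prime 2) := ⟨Nat.prime_two⟩
  have hq2 : 2 ≤ Fintype.card F := Fintype.one_lt_card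
  have hF : Odd (Fintype.card F) := odd_of_three hq2 hq
  have h2 : (2 : F) ≠ 0 := Cfsg.Agent.Lib.KS2.SL2.two_ne_zero_of_odd hF
  obtain ⟨H, K, hD, hH⟩ := exists_gl2Data (F := F) hq
  obtain ⟨T, U, hT, hmod⟩ := exists_model 2 m (Fin m) (by simp)
  have hc : Fintype.card (Fin 2 × Fin m) = 2 * m := by simp
  let e := Fintype.equivFinOfCardEq hc
  set M₀ := (wrSub glWrData H T) ⊓ (GeneralLinearGroup.det : GL (Fin 2 × Fin m) F →* Fˣ).ker with hM₀
  let M₀' : Subgroup (SpecialLinearGroup (Fin 2 × Fin m) F) := M₀.comap SpecialLinearGroup.toGL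
  have hmap : M₀'.map SpecialLinearGroup.toGL = M₀ := by
    ext a
    rw [mem_map_comap_toGL, Subgroup.mem_inf]
    constructor
    · rintro ⟨h3, -⟩
      exact h3
    · intro h3
      exact ⟨h3, h3.2⟩
  have hE' : ∀ g ∈ M₀', g ^ 2 ∈ ⁅M₀', M₀'⁆ := by
    refine exp_comap_toGL M₀ ?_
    change ∀ g ∈ M₀'.map SpecialLinearGroup.toGL, g ^ 2 ∈ ⁅M₀'.map SpecialLinearGroup.toGL,
      M₀'.map SpecialLinearGroup.toGL⁆
    rw [hmap]
    exact exp_M0 hD T hmod.pow_mem
  let φ := (Cfsg.Agent.Lib.Known3.SelfCent.slR e F).toMonoidHom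
  have hφ : Function.Injective φ := (Cfsg.Agent.Lib.Known3.SelfCent.slR e F).injective
  refine sylow_exp_of_sub 2 (M₀'.map φ) ?_ (exp_map φ 2 hE') P
  have hcard1 : Nat.card (M₀'.map φ) = Nat.card M₀' :=
    (Nat.card_congr (Subgroup.equivMapOfInjective M₀' φ hφ).toEquiv).symm
  have hcard2 : Nat.card M₀' = Nat.card M₀ := by
    rw [← hmap]
    exact Nat.card_congr (Subgroup.equivMapOfInjective M₀' _ SpecialLinearGroup.toGL_injective).toEquiv
  have hcard3 := card_M0 hD T hm h2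
  rw [card_wrSub, hH, hT, ← pow_mul, ← pow_add] at hcard3
  rw [hcard1, hcard2, Nat.factorization_def _ Nat.prime_two]
  have h1 := val_card_SL hF (2 * m) (by omega)
  have h5 := val_card_GL hF 2
  have h3 := fVal_two_mul hq2 hq 1
  have h4 := fVal_two_mul hq2 hq m
  have h6 := val_sub_one_of_three hq2 hq
  simp only [mul_one, Nat.factorial_one, padicValNat_one_right, add_zero, one_mul] at h3
  have e2 : fVal (Fintype.card F) 2 = 1 + padicValNat 2 (Fintype.card F ^ 2 - 1) := h3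
  rw [h5, e2] at hcard3
  have e3 := mul_comm (1 + padicValNat 2 (Fintype.card F ^ 2 - 1)) m
  have e4 : (1 + padicValNat 2 (Fintype.card F ^ 2 - 1)) * m + padicValNat 2 m.factorial =
      padicValNat 2 (Nat.card (SpecialLinearGroup (Fin (2 * m)) F)) + 1 := by omega
  rw [e4, pow_succ, mul_comm] at hcard3
  exact (Nat.eq_of_mul_eq_mul_left (by norm_num) hcard3).symm

end Three

end Cfsg.Agent.Lib.AltChar
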